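import Groth.Agent.Weil.Frob
import Groth.Prelude.Def_W4c1zetahwZeta
import Groth.Prelude.Def_SgaExt
import Mathlib.FieldTheory.Finite.Extension
import Mathlib.Algebra.Field.ULift
import Mathlib.AlgebraicGeometry.AlgClosed.Basic

/-!
# Closed points and rational points of a scheme over a field
-/

universe u

noncomputable section

open AlgebraicGeometry CategoryTheory

namespace Groth.Agent.ZetaLib

open Groth.Agent.Weil (structMap)

variable {k : Type u} [Field k] {X Y : Scheme.{u}}

theorem fromSpecResidueField_comp (f : X ⟶ Spec (CommRingCat.of k)) (x : X) :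
    X.fromSpecResidueField x ≫ f = Spec.map (CommRingCat.ofHom (structMap f x)) := by
  rw [← Scheme.Hom.SpecMap_residueFieldMap_fromSpecResidueField,
    ← Scheme.Spec.map_residueFieldIso_inv_eq_fromSpecResidueField, ← Spec.map_comp, ← Spec.map_comp]
  congr 1
  rw [Category.assoc, Scheme.Spec.algebraMap_residueFieldIso_inv_assoc]
  have h := Weil.structMap_comp f (𝟙 (Spec (CommRingCat.of k))) x
  rw [Category.comp_id] at h
  rw [h]
  ext a
  rfl

theorem residueDegree_eq_finrank (f : X ⟶ Spec (CommRingCat.of k)) (x : X) :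
    EGA4loc.residueDegree f x =
      (letI := (structMap f x).toAlgebra
       Module.finrank k (X.residueField x)) := by
  letI := (f.residueFieldMap x).hom.toAlgebra
  letI := (structMap f x).toAlgebra
  let e : k ≃+* (Spec (CommRingCat.of k)).residueField (f x) :=
    RingEquiv.ofBijective (structMap (𝟙 _) (f x))
      ⟨RingHom.injective _, Weil.structMap_id_surjective (f x)⟩
  refine (Algebra.finrank_eq_of_equiv_equiv e (RingEquiv.refl _) ?_).symm
  have h := Weil.structMap_comp f (𝟙 (Spec (CommRingCat.of k))) x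
  rw [Category.comp_id] at h
  ext a
  exact (RingHom.congr_fun h a).symm

theorem residueDegree_eq_residueDegree (f : X ⟶ Spec (CommRingCat.of k)) (x : X) :
    EGA4loc.residueDegree f x = f.residueDegree x := rfl

theorem pdim_eq_zero_iff (f : X ⟶ Spec (CommRingCat.of k)) [LocallyOfFiniteType f] (x : X) :
    WeilCoh.pdim X x = 0 ↔ IsClosed ({x} : Set X) := by
  refine ⟨fun h => ?_, Weil.pdim_of_isClosed⟩
  have h1 := (Weil.pdim_eq f x).2
  rw [h] at h1
  suffices closure ({x} : Set X) = {x} by rw [← this]; exact isClosed_closure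
  refine Set.Subset.antisymm (fun y hy => ?_) subset_closure
  set C := closure ({x} : Set X)
  have hC : IsClosed C := isClosed_closure
  let A : TopologicalSpace.IrreducibleCloseds C := ⟨closure {⟨y, hy⟩}, isIrreducible_singleton.closure, isClosed_closure⟩
  let B : TopologicalSpace.IrreducibleCloseds C :=
    ⟨closure {⟨x, subset_closure rfl⟩}, isIrreducible_singleton.closure, isClosed_closure⟩
  have hval : ∀ z : C, closure ({z} : Set C) = Subtype.val ⁻¹' closure ({(z : X)} : Set X) := fun z => by
    rw [Topology.IsInducing.subtypeVal.closure_eq_preimage_closure_image, Set.image_singleton]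
  have hle : A ≤ B := by
    refine closure_minimal (Set.singleton_subset_iff.mpr ?_) isClosed_closure
    show _ ∈ closure _
    rw [hval]
    exact hy
  have hge : B ≤ A := Order.krullDim_nonpos_iff_forall_isMax.1 (le_of_eq h1) A hle
  have hx : (⟨x, subset_closure rfl⟩ : C) ∈ closure ({⟨y, hy⟩} : Set C) := hge (subset_closure rfl)
  rw [hval] at hx
  exact ((specializes_iff_mem_closure.mpr hy).antisymm (specializes_iff_mem_closure.mpr hx)).eq.symm

theorem isClosed_iff_finite (f : X ⟶ Spec (CommRingCat.of k)) [LocallyOfFiniteType f] (x : X) :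
    IsClosed ({x} : Set X) ↔
      (letI := (structMap f x).toAlgebra
       Module.Finite k (X.residueField x)) := by
  letI := (structMap f x).toAlgebra
  have htr : Algebra.trdeg k (X.residueField x) = WeilCoh.pdim X x := (Weil.pdim_eq f x).1
  rw [← pdim_eq_zero_iff f x]
  constructor
  · intro h
    rw [h, Nat.cast_zero, trdeg_eq_zero_iff] at htr
    haveI : Algebra.EssFiniteType k (X.residueField x) := Weil.essFiniteType_structMap f x
    exact Algebra.finite_of_essFiniteType_of_isAlgebraic
  · intro h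
    rw [trdeg_eq_zero] at htr
    exact_mod_cast htr.symm

theorem residueDegree_pos_iff (f : X ⟶ Spec (CommRingCat.of k)) [LocallyOfFiniteType f] (x : X) :
    0 < EGA4loc.residueDegree f x ↔ IsClosed ({x} : Set X) := by
  rw [isClosed_iff_finite f, residueDegree_eq_finrank]
  letI := (structMap f x).toAlgebra
  exact ⟨fun h => Module.finite_of_finrank_pos h, fun h => Module.finrank_pos⟩

variable (k' : Type u) [Field k'] [Algebra k k']

/-- Points with values in a field extension. -/
def pointsEquiv (f : X ⟶ Spec (CommRingCat.of k)) :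
    { g : Spec (CommRingCat.of k') ⟶ X // g ≫ f = Spec.map (CommRingCat.ofHom (algebraMap k k')) } ≃
      Σ x : X, { φ : X.residueField x →+* k' // φ.comp (structMap f x) = algebraMap k k' } :=
  ((Scheme.SpecToEquivOfField k' X).subtypeEquiv (q := fun p => p.2.hom.comp (structMap f p.1) = algebraMap k k')
    (fun g => by
      obtain ⟨⟨x, φ⟩, rfl⟩ := (Scheme.SpecToEquivOfField k' X).symm.surjective g
      rw [Equiv.apply_symm_apply, Scheme.SpecToEquivOfField_symm_apply, Category.assoc,
        fromSpecResidueField_comp, ← Spec.map_comp, Spec.map_inj, CommRingCat.hom_ext_iff]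
      rfl)).trans
    { toFun := fun p => ⟨p.1.1, p.1.2.hom, p.2⟩
      invFun := fun p => ⟨⟨p.1, CommRingCat.ofHom p.2.1⟩, p.2.2⟩
      left_inv := fun p => rfl
      right_inv := fun p => rfl }

instance finite_points [Finite k'] (f : X ⟶ Spec (CommRingCat.of k)) [LocallyOfFiniteType f]
    [QuasiCompact f] :
    Finite { g : Spec (CommRingCat.of k') ⟶ X // g ≫ f = Spec.map (CommRingCat.ofHom (algebraMap k k')) } := by
  haveI : CompactSpace X := QuasiCompact.compactSpace_of_compactSpace f
  obtain ⟨U, hUfin, hU⟩ : ∃ s : Set X.affineOpens, s.Finite ∧ ⋃ V ∈ s, ((V : X.Opens) : Set X) = Set.univ := by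
    obtain ⟨t, ht⟩ := isCompact_univ.elim_finite_subcover (fun V : X.affineOpens => ((V : X.Opens) : Set X))
      (fun V => V.1.isOpen) (fun x _ => by
        obtain ⟨V, hV, hxV, -⟩ := exists_isAffineOpen_mem_and_subset (X := X) (U := ⊤) (x := x) trivial
        exact Set.mem_iUnion.mpr ⟨⟨V, hV⟩, hxV⟩)
    exact ⟨t, t.finite_toSet, Set.eq_univ_of_univ_subset (by simpa using ht)⟩
  haveI := hUfin.to_subtype
  let φ : ∀ V : U, k →+* Γ(X, (V.1 : X.Opens)) := fun V =>
    ((Scheme.ΓSpecIso (CommRingCat.of k)).inv ≫ f.appLE ⊤ (V.1 : X.Opens) (by simp)).hom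
  have hfin : ∀ V : U, Finite { ψ : Γ(X, (V.1 : X.Opens)) →+* k' // ψ.comp (φ V) = algebraMap k k' } := by
    intro V
    have hφ : (φ V).FiniteType :=
      RingHom.FiniteType.comp (f.finiteType_appLE (isAffineOpen_top _) V.1.2 (by simp))
        (RingHom.FiniteType.of_surjective _
          (Scheme.ΓSpecIso (CommRingCat.of k)).symm.commRingCatIsoToRingEquiv.surjective)
    letI := (φ V).toAlgebra
    haveI : Algebra.FiniteType k Γ(X, (V.1 : X.Opens)) := hφ
    obtain ⟨s, hs⟩ := ‹Algebra.FiniteType k Γ(X, (V.1 : X.Opens))›.out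
    refine Finite.of_injective (fun ψ (a : s) => ψ.1 a) fun ψ₁ ψ₂ h => Subtype.ext ?_
    let e : { ψ : Γ(X, (V.1 : X.Opens)) →+* k' // ψ.comp (φ V) = algebraMap k k' } →
        (Γ(X, (V.1 : X.Opens)) →ₐ[k] k') :=
      fun ψ => { ψ.1 with commutes' := fun r => RingHom.congr_fun ψ.2 r }
    have : e ψ₁ = e ψ₂ := AlgHom.ext_of_adjoin_eq_top hs fun a ha => congrFun h ⟨a, ha⟩
    exact congrArg AlgHom.toRingHom this
  have hcomp : ∀ V : U, V.1.2.fromSpec ≫ f = Spec.map (CommRingCat.ofHom (φ V)) := by
    intro V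
    rw [← IsAffineOpen.SpecMap_appLE_fromSpec f (isAffineOpen_top _) V.1.2 (by simp)]
    simp [φ, IsAffineOpen.fromSpec_top, Scheme.isoSpec_Spec_inv, ← Spec.map_comp]
  let Φ : (Σ V : U, { ψ : Γ(X, (V.1 : X.Opens)) →+* k' // ψ.comp (φ V) = algebraMap k k' }) →
      { g : Spec (CommRingCat.of k') ⟶ X // g ≫ f = Spec.map (CommRingCat.ofHom (algebraMap k k')) } :=
    fun p => ⟨Spec.map (CommRingCat.ofHom p.2.1) ≫ p.1.1.2.fromSpec, by
      rw [Category.assoc, hcomp, ← Spec.map_comp]
      exact congrArg (fun φ => Spec.map (CommRingCat.ofHom φ)) p.2.2⟩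
  refine Finite.of_surjective Φ fun g => ?_
  obtain ⟨V, hV, hxV⟩ : ∃ V ∈ U, g.1 (IsLocalRing.closedPoint k') ∈ (V : X.Opens) := by
    simpa using hU.ge (Set.mem_univ (g.1 (IsLocalRing.closedPoint k')))
  have hrange : Set.range g.1 ⊆ Set.range V.2.fromSpec := by
    rintro _ ⟨s, rfl⟩
    rw [V.2.range_fromSpec, show s = IsLocalRing.closedPoint k' from Subsingleton.elim (α := PrimeSpectrum k') _ _]
    exact hxV
  haveI : IsOpenImmersion V.2.fromSpec := V.2.isOpenImmersion_fromSpec
  let h := IsOpenImmersion.lift V.2.fromSpec g.1 hrange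
  have hh : h ≫ V.2.fromSpec = g.1 := IsOpenImmersion.lift_fac _ _ _
  refine ⟨⟨⟨V, hV⟩, (Spec.preimage h).hom, ?_⟩, Subtype.ext (by simpa [Φ] using hh)⟩
  have := g.2
  rw [← hh, Category.assoc, hcomp ⟨V, hV⟩, ← Spec.map_preimage h, ← Spec.map_comp, Spec.map_inj,
    CommRingCat.hom_ext_iff] at this
  exact this

variable [Finite k]

open scoped Classical in
theorem card_fibre [Finite k'] (f : X ⟶ Spec (CommRingCat.of k)) [LocallyOfFiniteType f] (x : X) :
    Nat.card { φ : X.residueField x →+* k' // φ.comp (structMap f x) = algebraMap k k' } =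
      if IsClosed ({x} : Set X) ∧ EGA4loc.residueDegree f x ∣ Module.finrank k k' then
        EGA4loc.residueDegree f x else 0 := by
  classical
  letI := (structMap f x).toAlgebra
  haveI : Module.Finite k k' := .of_finite
  let e : { φ : X.residueField x →+* k' // φ.comp (structMap f x) = algebraMap k k' } ≃
      (X.residueField x →ₐ[k] k') :=
    { toFun := fun φ => { φ.1 with commutes' := fun r => RingHom.congr_fun φ.2 r }
      invFun := fun φ => ⟨φ.toRingHom, φ.comp_algebraMap⟩
      left_inv := fun φ => rfl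
      right_inv := fun φ => rfl }
  rw [Nat.card_congr e, residueDegree_eq_finrank, isClosed_iff_finite f]
  split_ifs with h
  · haveI := h.1
    haveI : Finite (X.residueField x) := Module.finite_of_finite k
    exact FiniteField.natCard_algHom_of_finrank_dvd h.2
  · rw [Nat.card_eq_zero]
    refine Or.inl ⟨fun φ => h ?_⟩
    haveI : Module.Finite k (X.residueField x) :=
      Module.Finite.of_injective φ.toLinearMap φ.toRingHom.injective
    haveI : Finite (X.residueField x) := Module.finite_of_finite k
    exact ⟨inferInstance, FiniteField.nonempty_algHom_iff_finrank_dvd.mp ⟨φ⟩⟩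

theorem finite_degree_dvd (f : X ⟶ Spec (CommRingCat.of k)) [LocallyOfFiniteType f] [QuasiCompact f]
    {r : ℕ} (hr : r ≠ 0) :
    { x : X | IsClosed ({x} : Set X) ∧ EGA4loc.residueDegree f x ∣ r }.Finite := by
  obtain ⟨p, _⟩ := CharP.exists k
  haveI : Fact p.Prime := ⟨CharP.char_is_prime k p⟩ 
  haveI : NeZero r := ⟨hr⟩
  let k' := ULift.{u} (FiniteField.Extension k p r)
  refine Set.Finite.subset (Set.finite_range fun g : { g : Spec (CommRingCat.of k') ⟶ X // g ≫ f = Spec.map (CommRingCat.ofHom (algebraMap k k')) } => ((pointsEquiv k' f) g).1) fun x hx => ?_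
  have h := card_fibre k' f x
  rw [show Module.finrank k k' = r from (ULift.algEquiv.toLinearEquiv.finrank_eq).trans
    (FiniteField.finrank_extension k p r), if_pos (show IsClosed ({x} : Set X) ∧ _ from hx)] at h
  have : Nat.card { φ : X.residueField x →+* k' // φ.comp (structMap f x) = algebraMap k k' } ≠ 0 := by
    rw [h]; exact ((residueDegree_pos_iff f x).mpr hx.1).ne'
  obtain ⟨φ⟩ := (Nat.card_ne_zero.mp this).1
  exact ⟨(pointsEquiv k' f).symm ⟨x, φ⟩, by simp⟩

theorem finite_degree_eq (f : X ⟶ Spec (CommRingCat.of k)) [LocallyOfFiniteType f] [QuasiCompact f]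
    {e : ℕ} : { x : X | IsClosed ({x} : Set X) ∧ EGA4loc.residueDegree f x = e }.Finite := by
  rcases eq_or_ne e 0 with rfl | he
  · convert Set.finite_empty
    ext x
    simp only [Set.mem_setOf_eq, Set.mem_empty_iff_false, iff_false, not_and]
    exact fun hx => ((residueDegree_pos_iff f x).mpr hx).ne'
  · exact (finite_degree_dvd f he).subset fun x hx => ⟨hx.1, hx.2 ▸ dvd_rfl⟩

theorem pointCount_eq_nPts [Finite k'] (f : X ⟶ Spec (CommRingCat.of k)) [LocallyOfFiniteType f]
    [QuasiCompact f] : SgaExt.pointCount f k' = Zeta.nPts f (Module.finrank k k') := by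
  classical
  haveI : Module.Finite k k' := .of_finite
  set r := Module.finrank k k'
  have hr : r ≠ 0 := Module.finrank_pos.ne'
  set S := (finite_degree_dvd f hr).toFinset
  let Fib := fun x : X => { φ : X.residueField x →+* k' // φ.comp (structMap f x) = algebraMap k k' }
  have hmem : ∀ p : Σ x, Fib x, p.1 ∈ S := fun p => by
    by_contra hp
    haveI : Finite (Fib p.1) := by
      haveI : Finite (Σ x, Fib x) := Finite.of_equiv _ (pointsEquiv k' f)
      exact Finite.of_injective (fun φ => (⟨p.1, φ⟩ : Σ x, Fib x)) sigma_mk_injective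
    have h := card_fibre k' f p.1
    rw [if_neg (by simpa [S] using hp)] at h
    rcases Nat.card_eq_zero.mp h with h' | h'
    · exact h'.false p.2
    · exact not_finite_iff_infinite.mpr h' ‹_›
  haveI : ∀ x : S, Finite (Fib x) := fun x => by
    haveI : Finite (Σ x, Fib x) := Finite.of_equiv _ (pointsEquiv k' f)
    exact Finite.of_injective (fun φ => (⟨x.1, φ⟩ : Σ x, Fib x)) sigma_mk_injective
  have e : (Σ x, Fib x) ≃ Σ x : S, Fib x :=
    (Equiv.subtypeUnivEquiv hmem).symm.trans (Equiv.subtypeSigmaEquiv Fib (· ∈ S))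
  rw [SgaExt.pointCount, Nat.card_congr ((pointsEquiv k' f).trans e), Nat.card_sigma]
  unfold Zeta.nPts
  rw [Finset.sum_coe_sort S fun x => Nat.card (Fib x),
    ← Finset.sum_fiberwise_of_maps_to (t := r.divisors) (g := fun x => EGA4loc.residueDegree f x)]
  · refine Finset.sum_congr rfl fun d hd => ?_
    have hd' := Nat.dvd_of_mem_divisors hd
    rw [show Zeta.degCount f d = (S.filter fun x => EGA4loc.residueDegree f x = d).card by
      rw [Zeta.degCount, ← Nat.card_eq_finsetCard]
      refine Nat.card_congr (Equiv.subtypeEquivRight fun x => ?_)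
      simp only [S, Finset.mem_filter, Set.Finite.mem_toFinset, Set.mem_setOf_eq]
      exact ⟨fun h => ⟨⟨h.1, h.2 ▸ hd'⟩, h.2⟩, fun h => ⟨h.1.1, h.2⟩⟩,
      mul_comm, ← smul_eq_mul, ← Finset.sum_const]
    refine Finset.sum_congr rfl fun x hx => ?_
    obtain ⟨hxS, hxd⟩ := Finset.mem_filter.mp hx
    rw [card_fibre k' f x, if_pos (by simpa [S] using hxS), hxd]
  · intro x hx
    simp only [S, Set.Finite.mem_toFinset, Set.mem_setOf_eq] at hx
    exact Nat.mem_divisors.mpr ⟨hx.2, hr⟩

end Groth.Agent.ZetaLib
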