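import Groth.Agent.ZetaLib.AffineLine
import Groth.Prelude.Def_CohB1
import Mathlib.Algebra.BigOperators.Intervals
import Mathlib.AlgebraicGeometry.ProjectiveSpectrum.Proper

/-!
# Points of projective space over a finite field
-/

universe u

noncomputable section

open AlgebraicGeometry CategoryTheory MvPolynomial

namespace Groth.Agent.ZetaLib

section dehom

variable {A σ : Type u} [CommRing A] [SetLike σ A] [AddSubgroupClass σ A] (𝒜 : ℕ → σ) [GradedRing 𝒜]
  {t : A} (ht : t ∈ 𝒜 1)

/-- `a ↦ Σ aₙ / tⁿ`. -/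
def dehom : A →+* HomogeneousLocalization.Away 𝒜 t :=
  (DirectSum.toSemiring
    (fun i => AddMonoidHom.mk' (fun x : 𝒜 i => HomogeneousLocalization.Away.mk 𝒜 ht i (x : A) (by simp))
      (fun x y => by
        apply HomogeneousLocalization.val_injective
        simp [HomogeneousLocalization.val_add, Localization.add_mk_self]))
    (by
      apply HomogeneousLocalization.val_injective
      simp [Localization.mk_self])
    (fun {i j} x y => by
      apply HomogeneousLocalization.val_injective
      simp [HomogeneousLocalization.val_mul, Localization.mk_mul, pow_add])).comp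
    (DirectSum.decomposeRingEquiv 𝒜).toRingHom

theorem dehom_of_mem {i : ℕ} {x : A} (hx : x ∈ 𝒜 i) :
    dehom 𝒜 ht x = HomogeneousLocalization.Away.mk 𝒜 ht i x (by simpa using hx) := by
  simp only [dehom, RingHom.comp_apply]
  erw [DirectSum.decompose_of_mem 𝒜 hx]
  rw [DirectSum.toSemiring_of]
  rfl

theorem dehom_surjective : Function.Surjective (dehom 𝒜 ht) := by
  intro y
  obtain ⟨n, x, hx, rfl⟩ := HomogeneousLocalization.Away.mk_surjective 𝒜 ht y
  exact ⟨x, dehom_of_mem 𝒜 ht (by simpa using hx)⟩

end dehom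

variable (n : ℕ) (k : Type u) [Field k] (F : Type u) [Field F] [Algebra k F]

theorem X_mem (i : Fin (n + 1)) :
    (X i : MvPolynomial (Fin (n + 1)) k) ∈ CohB1.polyGrading n k 1 :=
  (mem_homogeneousSubmodule 1 _).mpr (isHomogeneous_X k i)

/-- The structure map, with source written as `Proj`. -/
abbrev str : Proj (CohB1.polyGrading n k) ⟶ Spec (CommRingCat.of k) :=
  Proj.toSpecZero (CohB1.polyGrading n k) ≫
    Spec.map (CommRingCat.ofHom (algebraMap k (CohB1.polyGrading n k 0)))

/-- The `i`-th chart. -/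
abbrev chartι (i : Fin (n + 1)) :=
  Proj.awayι (CohB1.polyGrading n k) (X i) (X_mem n k i) one_pos

/-- Dehomogenisation at `X i`. -/
abbrev dh (i : Fin (n + 1)) :
    MvPolynomial (Fin (n + 1)) k →+* HomogeneousLocalization.Away (CohB1.polyGrading n k) (X i) :=
  dehom (CohB1.polyGrading n k) (X_mem n k i)

theorem dh_self (i : Fin (n + 1)) : dh n k i (X i) = 1 := by
  rw [dh, dehom_of_mem _ _ (X_mem n k i)]
  refine HomogeneousLocalization.val_injective _ ?_
  simp [Localization.mk_self ⟨X i, (Submonoid.mem_powers (X i : MvPolynomial (Fin (n + 1)) k))⟩]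

theorem dh_isLocalizationElem (i j : Fin (n + 1)) :
    HomogeneousLocalization.Away.isLocalizationElem (X_mem n k i) (X_mem n k j) = dh n k i (X j) := by
  rw [dh, dehom_of_mem _ _ (X_mem n k j)]
  refine HomogeneousLocalization.val_injective _ ?_
  simp [HomogeneousLocalization.Away.isLocalizationElem]

theorem dh_C (i : Fin (n + 1)) (r : k) :
    dh n k i (C r) = HomogeneousLocalization.fromZeroRingHom (CohB1.polyGrading n k) _
      (algebraMap k (CohB1.polyGrading n k 0) r) := by
  rw [dh, dehom_of_mem _ _ ((mem_homogeneousSubmodule 0 _).mpr (isHomogeneous_C _ r))]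
  refine HomogeneousLocalization.val_injective _ ?_
  simp [HomogeneousLocalization.fromZeroRingHom]
  all_goals rfl

variable {F}

/-- The evaluation on the chart. -/
theorem exists_chartHom (i : Fin (n + 1)) (v : Fin (n + 1) → F) (hv : v i = 1) :
    ∃ φ : HomogeneousLocalization.Away (CohB1.polyGrading n k) (X i) →+* F,
      φ.comp (dh n k i) = (MvPolynomial.aeval v : MvPolynomial (Fin (n + 1)) k →ₐ[k] F).toRingHom := by
  have hu : IsUnit ((MvPolynomial.aeval v : MvPolynomial (Fin (n + 1)) k →ₐ[k] F).toRingHom (X i)) := by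
    simp [hv]
  refine ⟨(IsLocalization.Away.lift (S := Localization.Away (X i : MvPolynomial (Fin (n + 1)) k)) (X i) hu).comp
    (algebraMap _ _), ?_⟩
  refine MvPolynomial.ringHom_ext (fun r => ?_) fun j => ?_
  · rw [RingHom.comp_apply, dh_C, RingHom.comp_apply]
    refine Eq.trans (congrArg _ (?_ : _ = algebraMap (MvPolynomial (Fin (n + 1)) k) _ (C r))) (IsLocalization.Away.lift_eq _ hu _)
    rw [HomogeneousLocalization.algebraMap_apply]
    simp [HomogeneousLocalization.fromZeroRingHom, Localization.mk_one_eq_algebraMap]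
    rfl
  · rw [RingHom.comp_apply, dh, dehom_of_mem _ _ (X_mem n k j), RingHom.comp_apply]
    set L := IsLocalization.Away.lift (S := Localization.Away (X i : MvPolynomial (Fin (n + 1)) k)) (X i) hu
    rw [HomogeneousLocalization.algebraMap_apply, HomogeneousLocalization.Away.val_mk, Localization.mk_eq_mk']
    have h := congrArg L (IsLocalization.mk'_spec (Localization.Away (X i : MvPolynomial (Fin (n + 1)) k)) (X j)
      (⟨(X i) ^ 1, 1, rfl⟩ : Submonoid.powers (X i : MvPolynomial (Fin (n + 1)) k)))
    rw [map_mul, IsLocalization.Away.lift_eq, IsLocalization.Away.lift_eq] at h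
    simpa [hv] using h

variable (F) in
/-- The `k`-points of projective space, as strata. -/
abbrev Strata := Σ i : Fin (n + 1), { v : Fin (n + 1) → F // v i = 1 ∧ ∀ j < i, v j = 0 }

theorem card_strata [Finite F] : Nat.card (Strata n F) = ∑ i ∈ Finset.range (n + 1), Nat.card F ^ i := by
  classical
  rw [Nat.card_sigma, ← Finset.sum_range_reflect, Finset.sum_range fun i => Nat.card F ^ (n + 1 - 1 - i)]
  refine Finset.sum_congr rfl fun i _ => ?_
  let e : { v : Fin (n + 1) → F // v i = 1 ∧ ∀ j < i, v j = 0 } ≃ ({ j : Fin (n + 1) // i < j } → F) :=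
    { toFun := fun v j => v.1 j.1
      invFun := fun w => ⟨fun j => if h : i < j then w ⟨j, h⟩ else if j = i then 1 else 0,
        by simp, fun j hj => by simp [hj.ne, hj.le]⟩
      left_inv := fun v => by
        ext j
        rcases lt_trichotomy i j with h | h | h
        · simp [h]
        · simp [← h, v.2.1]
        · simp [h.not_gt, h.ne, v.2.2 j h]
      right_inv := fun w => by ext j; simp [j.2] }
  rw [Nat.card_congr e, Nat.card_fun]
  congr 1
  rw [Nat.card_eq_fintype_card, Fintype.card_subtype,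
    show (Finset.univ.filter fun j => i < j) = Finset.Ioi i by ext; simp, Fin.card_Ioi]

theorem toSpec_chart (i : Fin (n + 1)) :
    chartι n k i ≫ str n k = Spec.map (CommRingCat.ofHom ((dh n k i).comp C)) := by
  refine (Category.assoc _ _ _).symm.trans ?_
  erw [Proj.awayι_toSpecZero]
  rw [← Spec.map_comp]
  congr 1
  refine CommRingCat.hom_ext (RingHom.ext fun r => ?_)
  exact (dh_C n k i r).symm

theorem exists_mem_basicOpen (x : Proj (CohB1.polyGrading n k)) :
    ∃ i : Fin (n + 1), x ∈ Proj.basicOpen (CohB1.polyGrading n k) (X i) := by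
  refine TopologicalSpace.Opens.mem_iSup.mp ((Proj.iSup_basicOpen_eq_top' (CohB1.polyGrading n k)
    (fun i : Fin (n + 1) => (X i : MvPolynomial (Fin (n + 1)) k)) (fun i => ⟨1, X_mem n k i⟩) ?_).ge trivial)
  refine top_le_iff.mp fun p _ => ?_
  clear * - p
  induction p using MvPolynomial.induction_on with
  | C r => exact Subalgebra.algebraMap_mem _ (⟨C r, (mem_homogeneousSubmodule 0 _).mpr (isHomogeneous_C _ r)⟩ : CohB1.polyGrading n k 0)
  | add p q hp hq => exact add_mem hp hq
  | mul_X p i hp => exact mul_mem hp (Algebra.subset_adjoin ⟨i, rfl⟩)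

theorem chart_mem_iff {i : Fin (n + 1)} (φ : HomogeneousLocalization.Away (CohB1.polyGrading n k) (X i) →+* F)
    (j : Fin (n + 1)) :
    (Spec.map (CommRingCat.ofHom φ) ≫ chartι n k i) (IsLocalRing.closedPoint F) ∈
        Proj.basicOpen (CohB1.polyGrading n k) (X j) ↔ φ (dh n k i (X j)) ≠ 0 := by
  have h : (Spec.map (CommRingCat.ofHom φ)) (IsLocalRing.closedPoint F) ∈
      (chartι n k i ⁻¹ᵁ Proj.basicOpen (CohB1.polyGrading n k) (X j)) ↔ φ (dh n k i (X j)) ≠ 0 := by
    rw [Proj.awayι_preimage_basicOpen (CohB1.polyGrading n k) (X_mem n k i) one_pos (X_mem n k j) one_pos]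
    show ¬ (HomogeneousLocalization.Away.isLocalizationElem (X_mem n k i) (X_mem n k j) ∈
      Ideal.comap φ (IsLocalRing.closedPoint F).asIdeal) ↔ _
    rw [dh_isLocalizationElem, Ideal.mem_comap]
    show ¬ (φ _ ∈ IsLocalRing.maximalIdeal F) ↔ _
    rw [IsLocalRing.mem_maximalIdeal, mem_nonunits_iff, not_not, isUnit_iff_ne_zero]
  exact h

theorem chart_comp_toSpec (i : Fin (n + 1))
    (φ : HomogeneousLocalization.Away (CohB1.polyGrading n k) (X i) →+* F) :
    (Spec.map (CommRingCat.ofHom φ) ≫ chartι n k i) ≫ str n k =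
      Spec.map (CommRingCat.ofHom (φ.comp ((dh n k i).comp C))) := by
  refine (Category.assoc _ _ _).trans ((congrArg (Spec.map (CommRingCat.ofHom φ) ≫ ·) (toSpec_chart n k i)).trans ?_)
  exact (Spec.map_comp _ _).symm

set_option maxHeartbeats 1000000 in
theorem pointCount_str [Finite F] :
    SgaExt.pointCount (str n k) F = ∑ i ∈ Finset.range (n + 1), Nat.card F ^ i := by
  classical
  rw [SgaExt.pointCount, ← card_strata n]
  symm
  choose φ hφ using fun p : Strata n F => exists_chartHom n k p.1 p.2.1 p.2.2.1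
  have hval : ∀ p j, φ p (dh n k p.1 (X j)) = p.2.1 j := fun p j => by
    have := RingHom.congr_fun (hφ p) (X j)
    simpa using this
  let Φ : Strata n F → { g : Spec (CommRingCat.of F) ⟶ Proj (CohB1.polyGrading n k) //
      g ≫ str n k = Spec.map (CommRingCat.ofHom (algebraMap k F)) } := fun p =>
    ⟨Spec.map (CommRingCat.ofHom (φ p)) ≫ chartι n k p.1, by
      refine (chart_comp_toSpec n k p.1 (φ p)).trans (congrArg Spec.map ?_)
      refine CommRingCat.hom_ext (RingHom.ext fun r => ?_)
      have := RingHom.congr_fun (hφ p) (C r)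
      simpa using this⟩
  have hΦ : ∀ p, (Φ p).1 = Spec.map (CommRingCat.ofHom (φ p)) ≫ chartι n k p.1 := fun p => rfl
  clear_value Φ
  refine Nat.card_congr (Equiv.ofBijective Φ ⟨fun p q h => ?_, fun g => ?_⟩)
  · have hmem : ∀ j, p.2.1 j ≠ 0 ↔ q.2.1 j ≠ 0 := fun j => by
      rw [← hval p j, ← hval q j, ← chart_mem_iff n k (φ p) j, ← chart_mem_iff n k (φ q) j]
      exact iff_of_eq (congrArg (fun g : Spec (CommRingCat.of F) ⟶ Proj (CohB1.polyGrading n k) =>
        g (IsLocalRing.closedPoint F) ∈ Proj.basicOpen (CohB1.polyGrading n k) (X j)) ((hΦ p).symm.trans ((congrArg Subtype.val h).trans (hΦ q))))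
    obtain ⟨i, v, hv1, hv0⟩ := p
    obtain ⟨i', v', hv1', hv0'⟩ := q
    obtain rfl : i = i' := by
      rcases lt_trichotomy i i' with hlt | rfl | hlt
      · exact absurd (hv0' i hlt) ((hmem i).mp (by simp [hv1]))
      · rfl
      · exact absurd (hv0 i' hlt) ((hmem i').mpr (by simp [hv1']))
    have h1 : Spec.map (CommRingCat.ofHom (φ ⟨i, v, hv1, hv0⟩)) ≫ chartι n k i =
        Spec.map (CommRingCat.ofHom (φ ⟨i, v', hv1', hv0'⟩)) ≫ chartι n k i :=
      (hΦ ⟨i, v, hv1, hv0⟩).symm.trans ((congrArg Subtype.val h).trans (hΦ ⟨i, v', hv1', hv0'⟩))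
    have h2 := (cancel_mono (f := chartι n k i) (g := Spec.map (CommRingCat.ofHom (φ ⟨i, v, hv1, hv0⟩)))
      (h := Spec.map (CommRingCat.ofHom (φ ⟨i, v', hv1', hv0'⟩)))).mp h1
    have h' : φ ⟨i, v, hv1, hv0⟩ = φ ⟨i, v', hv1', hv0'⟩ :=
      congrArg CommRingCat.Hom.hom (Spec.map_injective h2)
    refine congrArg (Sigma.mk i) (Subtype.ext (funext fun j => ?_))
    rw [← hval ⟨i, v, hv1, hv0⟩ j, ← hval ⟨i, v', hv1', hv0'⟩ j, h']
  · obtain ⟨g, hg⟩ := g
    set P := g (IsLocalRing.closedPoint F)
    let S := Finset.univ.filter fun j : Fin (n + 1) => P ∈ Proj.basicOpen (CohB1.polyGrading n k) (X j)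
    have hS : S.Nonempty := by
      obtain ⟨i, hi⟩ := exists_mem_basicOpen n k P
      exact ⟨i, by simp only [S, Finset.mem_filter, Finset.mem_univ, true_and]; exact hi⟩
    set i := S.min' hS with hidef
    have hi : P ∈ Proj.basicOpen (CohB1.polyGrading n k) (X i) := (Finset.mem_filter.mp (S.min'_mem hS)).2
    have hrange : Set.range g ⊆ Set.range (chartι n k i) := by
      rintro _ ⟨s, rfl⟩
      rw [show s = IsLocalRing.closedPoint F from Subsingleton.elim (α := PrimeSpectrum F) _ _]
      have := Proj.opensRange_awayι (CohB1.polyGrading n k) (X i) (X_mem n k i) one_pos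
      rw [← this] at hi
      exact hi
    obtain ⟨ψ, hψ⟩ : ∃ ψ : HomogeneousLocalization.Away (CohB1.polyGrading n k) (X i) →+* F,
        Spec.map (CommRingCat.ofHom ψ) ≫ chartι n k i = g :=
      ⟨(Spec.preimage (IsOpenImmersion.lift (chartι n k i) g hrange)).hom, by
        rw [CommRingCat.ofHom_hom, Spec.map_preimage]
        exact IsOpenImmersion.lift_fac _ _ _⟩
    let v : Fin (n + 1) → F := fun j => ψ (dh n k i (X j))
    have hv0 : ∀ j < i, v j = 0 := fun j hj => by
      by_contra h
      have hj' : j ∈ S := Finset.mem_filter.mpr ⟨Finset.mem_univ _, by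
        show g (IsLocalRing.closedPoint F) ∈ _
        rw [← hψ]
        exact (chart_mem_iff n k ψ j).mpr h⟩
      exact absurd (S.min'_le j hj') (not_le.mpr hj)
    have hv1 : v i = 1 := by simp only [v, dh_self, map_one]
    refine ⟨⟨i, v, hv1, hv0⟩, Subtype.ext ((hΦ ⟨i, v, hv1, hv0⟩).trans ?_)⟩
    refine Eq.trans (congrArg (fun e => Spec.map (CommRingCat.ofHom e) ≫ chartι n k i) ?_) hψ
    refine RingHom.ext fun y => ?_
    obtain ⟨p, rfl⟩ := dehom_surjective (CohB1.polyGrading n k) (X_mem n k i) y
    have hcomp : ψ.comp (dh n k i) = (MvPolynomial.aeval v : MvPolynomial (Fin (n + 1)) k →ₐ[k] F).toRingHom := by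
      refine MvPolynomial.ringHom_ext (fun r => ?_) fun j => by simp [v]
      have h1 : (Spec.map (CommRingCat.ofHom ψ) ≫ chartι n k i) ≫ str n k =
          Spec.map (CommRingCat.ofHom (algebraMap k F)) := by rw [hψ]; exact hg
      have h2 := congrArg CommRingCat.Hom.hom (Spec.map_injective ((chart_comp_toSpec n k i ψ).symm.trans h1))
      simpa using RingHom.congr_fun h2 r
    exact (RingHom.congr_fun (hφ _) p).trans (RingHom.congr_fun hcomp p).symm

theorem pointCount_projSpace [Finite F] :
    SgaExt.pointCount (CohB1.ProjSpace.toSpec n k) F = ∑ i ∈ Finset.range (n + 1), Nat.card F ^ i :=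
  pointCount_str (F := F) n k

theorem finiteType_zero :
    Algebra.FiniteType (CohB1.polyGrading n k 0) (MvPolynomial (Fin (n + 1)) k) :=
  RingHom.FiniteType.of_comp_finiteType (f := algebraMap k (CohB1.polyGrading n k 0))
    (g := (SetLike.GradeZero.subring (CohB1.polyGrading n k)).subtype)
    (RingHom.finiteType_algebraMap.mpr (inferInstanceAs (Algebra.FiniteType k (MvPolynomial (Fin (n + 1)) k))))

theorem surjective_algebraMap_zero : Function.Surjective (algebraMap k (CohB1.polyGrading n k 0)) := by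
  rintro ⟨p, hp⟩
  exact ⟨coeff 0 p, Subtype.ext
    ((totalDegree_eq_zero_iff_eq_C (p := p)).mp
      ((totalDegree_zero_iff_isHomogeneous (p := p)).mpr ((mem_homogeneousSubmodule 0 p).mp hp))).symm⟩

set_option backward.isDefEq.respectTransparency.types false in
theorem locallyOfFiniteType_toSpec : LocallyOfFiniteType (CohB1.ProjSpace.toSpec n k) := by
  haveI := finiteType_zero n k
  have h2 : LocallyOfFiniteType (Spec.map (CommRingCat.ofHom (algebraMap k (CohB1.polyGrading n k 0)))) := by
    rw [HasRingHomProperty.Spec_iff (P := @LocallyOfFiniteType)]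
    exact RingHom.FiniteType.of_surjective _ (surjective_algebraMap_zero n k)
  have h1 : LocallyOfFiniteType (Proj.toSpecZero (CohB1.polyGrading n k)) := inferInstance
  unfold CohB1.ProjSpace.toSpec
  exact @locallyOfFiniteType_comp _ _ _ _ _ h1 h2

set_option backward.isDefEq.respectTransparency.types false in
theorem quasiCompact_toSpec : QuasiCompact (CohB1.ProjSpace.toSpec n k) := by
  haveI := finiteType_zero n k
  have h1 : QuasiCompact (Proj.toSpecZero (CohB1.polyGrading n k)) := inferInstance
  have h2 : QuasiCompact (Spec.map (CommRingCat.ofHom (algebraMap k (CohB1.polyGrading n k 0)))) := inferInstance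
  unfold CohB1.ProjSpace.toSpec
  exact @quasiCompact_comp _ _ _ _ _ h1 h2

end Groth.Agent.ZetaLib
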