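import Groth.Agent.ZetaLib.Euler
import Mathlib.AlgebraicGeometry.Morphisms.Immersion

/-!
# Additivity over a partition of the closed points
-/

universe u v

noncomputable section

open AlgebraicGeometry CategoryTheory

namespace Groth.Agent.ZetaLib

variable {k : Type u} [Field k] {X Y : Scheme.{u}}

theorem residueDegree_preimmersion (g : Y ⟶ X) [IsPreimmersion g] (y : Y) : g.residueDegree y = 1 := by
  letI := (g.residueFieldMap y).hom.toAlgebra
  have hs : Function.Surjective (g.residueFieldMap y).hom := by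
    intro z
    obtain ⟨a, rfl⟩ := Y.residue_surjective y z
    obtain ⟨b, rfl⟩ := g.stalkMap_surjective y a
    exact ⟨(X.residue (g y)).hom b, ConcreteCategory.congr_hom (Scheme.residue_residueFieldMap g y) b⟩
  let e : X.residueField (g y) ≃ₗ[X.residueField (g y)] Y.residueField y :=
    LinearEquiv.ofBijective (Algebra.linearMap (X.residueField (g y)) (Y.residueField y))
      ⟨RingHom.injective _, hs⟩
  exact e.finrank_eq.symm.trans (Module.finrank_self _)

theorem residueDegree_comp_preimmersion (g : Y ⟶ X) [IsPreimmersion g]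
    (f : X ⟶ Spec (CommRingCat.of k)) (y : Y) :
    EGA4loc.residueDegree (g ≫ f) y = EGA4loc.residueDegree f (g y) := by
  rw [residueDegree_eq_residueDegree, residueDegree_eq_residueDegree, Weil.residueDegree_comp,
    residueDegree_preimmersion g, mul_one]

theorem isClosed_singleton_immersion_iff (g : Y ⟶ X) [IsImmersion g]
    (f : X ⟶ Spec (CommRingCat.of k)) [LocallyOfFiniteType f] (y : Y) :
    IsClosed ({y} : Set Y) ↔ IsClosed ({g y} : Set X) := by
  rw [← residueDegree_pos_iff (g ≫ f) y, ← residueDegree_pos_iff f (g y),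
    residueDegree_comp_preimmersion g f y]

variable [Finite k] {ι : Type v} [Fintype ι] {Z : ι → Scheme.{u}}

theorem degCount_partition (f : X ⟶ Spec (CommRingCat.of k)) [LocallyOfFiniteType f] [QuasiCompact f]
    (g : ∀ i, Z i ⟶ X) [∀ i, IsImmersion (g i)]
    (hpart : ∀ x : X, IsClosed ({x} : Set X) → ∃! i, x ∈ Set.range (g i).base) (e : ℕ) :
    Zeta.degCount f e = ∑ i, Zeta.degCount (g i ≫ f) e := by
  let A := fun i => { y : Z i // IsClosed ({y} : Set (Z i)) ∧ EGA4loc.residueDegree (g i ≫ f) y = e }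
  let Φ : (Σ i, A i) → { x : X // IsClosed ({x} : Set X) ∧ EGA4loc.residueDegree f x = e } := fun p =>
    ⟨g p.1 p.2.1, (isClosed_singleton_immersion_iff (g p.1) f _).mp p.2.2.1,
      (residueDegree_comp_preimmersion (g p.1) f _).symm.trans p.2.2.2⟩
  have hΦ : Function.Bijective Φ := by
    refine ⟨?_, ?_⟩
    · rintro ⟨i, y, hy⟩ ⟨j, y', hy'⟩ h
      have hval : g i y = g j y' := congrArg Subtype.val h
      obtain rfl : i = j := (hpart (g i y) (Φ ⟨i, y, hy⟩).2.1).unique ⟨y, rfl⟩ ⟨y', hval.symm⟩
      obtain rfl : y = y' := (g i).isEmbedding.injective hval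
      rfl
    · rintro ⟨x, hx⟩
      obtain ⟨i, ⟨y, rfl⟩, -⟩ := hpart x hx.1
      exact ⟨⟨i, y, (isClosed_singleton_immersion_iff (g i) f _).mpr hx.1,
        (residueDegree_comp_preimmersion (g i) f _).trans hx.2⟩, rfl⟩
  haveI : Finite { x : X // IsClosed ({x} : Set X) ∧ EGA4loc.residueDegree f x = e } :=
    (finite_degree_eq f).to_subtype
  haveI : ∀ i, Finite (A i) := fun i =>
    Finite.of_injective (fun y => Φ ⟨i, y⟩) fun a b h => sigma_mk_injective (hΦ.1 h)
  rw [Zeta.degCount, ← Nat.card_eq_of_bijective Φ hΦ, Nat.card_sigma]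
  rfl

theorem zetaFun_partition (f : X ⟶ Spec (CommRingCat.of k)) [LocallyOfFiniteType f] [QuasiCompact f]
    (g : ∀ i, Z i ⟶ X) [∀ i, IsImmersion (g i)]
    (hpart : ∀ x : X, IsClosed ({x} : Set X) → ∃! i, x ∈ Set.range (g i).base) :
    Zeta.zetaFun f = ∏ i, Zeta.zetaFun (g i ≫ f) := by
  have hlog : Zeta.logZeta f = ∑ i, Zeta.logZeta (g i ≫ f) := by
    ext m
    simp only [Zeta.logZeta, map_sum, PowerSeries.coeff_mk, ← Finset.sum_div]
    congr 1
    rw [← Nat.cast_sum]
    congr 1
    simp only [Zeta.nPts, degCount_partition f g hpart, Finset.mul_sum]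
    exact Finset.sum_comm
  show PowExp.expS (Zeta.logZeta f) = _
  rw [hlog, PowExp.expS_sum _ _ fun i _ => constantCoeff_logZeta _]
  rfl

omit [Fintype ι] in
theorem zetaFun_add (f : X ⟶ Spec (CommRingCat.of k)) [LocallyOfFiniteType f] [QuasiCompact f]
    {A B : Scheme.{u}} (i : A ⟶ X) [IsImmersion i] (j : B ⟶ X) [IsImmersion j]
    (h : ∀ x : X, IsClosed ({x} : Set X) → (x ∈ Set.range i.base ↔ x ∉ Set.range j.base)) :
    Zeta.zetaFun f = Zeta.zetaFun (i ≫ f) * Zeta.zetaFun (j ≫ f) := by
  classical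
  let Z : Bool → Scheme.{u} := fun b => cond b A B
  let g : ∀ b, Z b ⟶ X := fun b => match b with
    | true => i
    | false => j
  haveI : ∀ b, IsImmersion (g b) := fun b => match b with
    | true => ‹IsImmersion i›
    | false => ‹IsImmersion j›
  rw [zetaFun_partition f g fun x hx => ?_]
  · rw [Fintype.prod_bool]
  · by_cases hi : x ∈ Set.range i.base
    · exact ⟨true, hi, fun b hb => by
        cases b
        · exact absurd hb ((h x hx).mp hi)
        · rfl⟩
    · exact ⟨false, not_not.mp (fun hj => hi ((h x hx).mpr hj)), fun b hb => by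
        cases b
        · rfl
        · exact absurd hb hi⟩

end Groth.Agent.ZetaLib
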