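import Groth.Agent.ZetaLib.Points
import Groth.Agent.PowExp.Basic
import Mathlib.RingTheory.PowerSeries.Trunc
import Mathlib.Algebra.BigOperators.Field

/-!
# The Euler product
-/

universe u v

noncomputable section

open AlgebraicGeometry CategoryTheory PowerSeries

namespace Groth.Agent.ZetaLib

open Groth.Agent.PowExp (expS expS_add expS_sum expS_natMul eq_expS expS_zero)

theorem coeff_natCast_mul' (c m : ℕ) (F : PowerSeries ℚ) :
    coeff m ((c : PowerSeries ℚ) * F) = (c : ℚ) * coeff m F := by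
  rw [← map_natCast (PowerSeries.C (R := ℚ)), coeff_C_mul]

/-- `- log (1 - t^r)`. -/
def logFactor (r : ℕ) : PowerSeries ℚ := mk fun m => if r ∣ m then (r : ℚ) / m else 0

theorem constantCoeff_logFactor (r : ℕ) : constantCoeff (logFactor r) = 0 := by
  simp [logFactor, ← coeff_zero_eq_constantCoeff_apply]

theorem deriv_logFactor (r : ℕ) :
    d⁄dX ℚ (logFactor r) = mk fun m => if r ∣ m + 1 then (r : ℚ) else 0 := by
  ext m
  have hm : (m : ℚ) + 1 ≠ 0 := by positivity
  simp only [coeff_derivative, logFactor, coeff_mk, Nat.cast_add, Nat.cast_one]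
  split_ifs
  · field_simp
  · simp

theorem expS_neg_logFactor {r : ℕ} (hr : r ≠ 0) : expS (-logFactor r) = 1 - X ^ r := by
  refine (eq_expS (by simp [constantCoeff_logFactor]) (by simp [hr]) ?_).symm
  rw [map_sub, derivative_one, derivative_pow, derivative_X, mul_one, map_neg, deriv_logFactor,
    zero_sub, mul_neg]
  congr 1
  rw [sub_mul, one_mul]
  ext m
  rw [map_sub, coeff_X_pow_mul', coeff_mk, coeff_natCast_mul', coeff_X_pow]
  by_cases h1 : r ≤ m
  · rw [if_neg (by omega), mul_zero, if_pos h1, coeff_mk]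
    have : (r ∣ m + 1) ↔ (r ∣ m - r + 1) := by
      rw [show m + 1 = m - r + 1 + r by omega, Nat.dvd_add_self_right]
    simp [this]
  · rw [if_neg h1, sub_zero]
    by_cases h2 : m = r - 1
    · rw [if_pos h2, mul_one, if_pos (by rw [h2, Nat.sub_add_cancel (Nat.pos_of_ne_zero hr)])]
    · rw [if_neg h2, mul_zero, if_neg]
      intro h
      have := Nat.le_of_dvd (Nat.succ_pos m) h
      omega

theorem coeff_expS_of_X_pow_dvd {n m : ℕ} {D : PowerSeries ℚ} (hD : X ^ (n + 1) ∣ D) (hm : m ≤ n) :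
    coeff m (expS D) = coeff m 1 := by
  have hc : constantCoeff D = 0 :=
    X_dvd_iff.mp ((dvd_pow_self X (Nat.succ_ne_zero n)).trans hD)
  unfold expS
  rw [coeff_subst' (HasSubst.of_constantCoeff_zero' hc), finsum_eq_single _ 0]
  · simp
  · intro d hd
    rw [show coeff m (D ^ d) = 0 from X_pow_dvd_iff.mp (hD.trans (dvd_pow_self D hd)) m (by omega),
      smul_zero]

variable {k : Type u} [Field k] {X : Scheme.{u}}

theorem constantCoeff_logZeta (f : X ⟶ Spec (CommRingCat.of k)) :
    constantCoeff (Zeta.logZeta f) = 0 := by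
  simp [Zeta.logZeta, ← coeff_zero_eq_constantCoeff_apply]

theorem trunc_zetaFun_mul_prod (f : X ⟶ Spec (CommRingCat.of k)) (n : ℕ) :
    trunc (n + 1) (Zeta.zetaFun f *
      ∏ r ∈ Finset.Icc 1 n, (1 - (PowerSeries.X : PowerSeries ℚ) ^ r) ^ Zeta.degCount f r) = 1 := by
  have hprod : ∏ r ∈ Finset.Icc 1 n, (1 - (PowerSeries.X : PowerSeries ℚ) ^ r) ^ Zeta.degCount f r =
      expS (∑ r ∈ Finset.Icc 1 n, (Zeta.degCount f r : PowerSeries ℚ) * -logFactor r) := by
    rw [expS_sum _ _ fun r _ => by simp [constantCoeff_logFactor]]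
    refine Finset.prod_congr rfl fun r hr => ?_
    rw [expS_natMul (by simp [constantCoeff_logFactor]), expS_neg_logFactor]
    have := (Finset.mem_Icc.mp hr).1
    omega
  rw [hprod, show Zeta.zetaFun f = expS (Zeta.logZeta f) from rfl,
    ← expS_add (constantCoeff_logZeta f) (by simp [constantCoeff_logFactor])]
  have hD : (PowerSeries.X : PowerSeries ℚ) ^ (n + 1) ∣ Zeta.logZeta f +
      ∑ r ∈ Finset.Icc 1 n, (Zeta.degCount f r : PowerSeries ℚ) * -logFactor r := by
    rw [X_pow_dvd_iff]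
    intro m hm
    simp only [map_add, map_sum, coeff_natCast_mul', map_neg, mul_neg, Zeta.logZeta, logFactor,
      coeff_mk, Finset.sum_neg_distrib, mul_ite, mul_zero]
    rw [← sub_eq_add_neg, sub_eq_zero, ← Finset.sum_filter]
    rcases Nat.eq_zero_or_pos m with rfl | hm0
    · simp
    have hdiv : (Finset.Icc 1 n).filter (· ∣ m) = m.divisors := by
      ext r
      simp only [Finset.mem_filter, Finset.mem_Icc, Nat.mem_divisors]
      constructor
      · exact fun h => ⟨h.2, hm0.ne'⟩
      · intro h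
        have := Nat.le_of_dvd hm0 h.1
        have := Nat.pos_of_dvd_of_pos h.1 hm0
        exact ⟨⟨by omega, by omega⟩, h.1⟩
    rw [hdiv, Zeta.nPts, Nat.cast_sum, Finset.sum_div]
    refine Finset.sum_congr rfl fun r _ => ?_
    push_cast; ring
  ext m
  rw [coeff_trunc, Polynomial.coeff_one]
  split_ifs with h1 h2
  · rw [coeff_expS_of_X_pow_dvd hD (by omega), h2, coeff_one, if_pos rfl]
  · rw [coeff_expS_of_X_pow_dvd hD (by omega), coeff_one, if_neg h2]
  · omega
  · rfl

theorem coeff_zetaFun_int (f : X ⟶ Spec (CommRingCat.of k)) (n : ℕ) :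
    ∃ z : ℤ, coeff n (Zeta.zetaFun f) = (z : ℚ) := by
  let P : PowerSeries ℤ := ∏ r ∈ Finset.Icc 1 n, (1 - PowerSeries.X ^ r) ^ Zeta.degCount f r
  have hP : IsUnit P := by
    rw [isUnit_iff_constantCoeff]
    simp only [P, map_prod, map_pow, map_sub, map_one, constantCoeff_X]
    rw [Finset.prod_eq_one fun r hr => by
      rw [zero_pow (by have := (Finset.mem_Icc.mp hr).1; omega), sub_zero, one_pow]]
    exact isUnit_one
  obtain ⟨Q, hQ⟩ := hP.exists_right_inv
  refine ⟨coeff n Q, ?_⟩
  let φ : PowerSeries ℤ →+* PowerSeries ℚ := PowerSeries.map (Int.castRingHom ℚ)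
  have hφP : φ P = ∏ r ∈ Finset.Icc 1 n, (1 - PowerSeries.X ^ r) ^ Zeta.degCount f r := by
    simp [φ, P, map_prod]
  have h := trunc_zetaFun_mul_prod f n
  rw [← hφP] at h
  have h2 : coeff n (Zeta.zetaFun f * φ P * φ Q) = coeff n (φ Q) := by
    rw [coeff_mul_eq_coeff_trunc_mul_trunc _ _ (lt_add_one n), h]
    simp [coeff_trunc]
  rw [mul_assoc, ← map_mul φ, hQ, map_one, mul_one] at h2
  rw [h2]
  simp [φ]

end Groth.Agent.ZetaLib
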