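import Mathlib.NumberTheory.LSeries.Convergence
import Mathlib.NumberTheory.EulerProduct.DirichletLSeries
import Mathlib.Analysis.Normed.Group.Tannery
import Mathlib.Analysis.Normed.Ring.InfiniteSum
import Mathlib.Analysis.SpecialFunctions.Log.Summable
import Mathlib.Analysis.SpecificLimits.Normed
import Mathlib.Algebra.BigOperators.Finsupp.Basic

/-!
# Dirichlet series of the free commutative monoid on a normed set
-/

noncomputable section

open Filter Topology

namespace Groth.Agent.ZetaLib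

variable {ι : Type*} {z : ι → ℂ}

/-- The monomial `∏ z_i ^ (α i)`. -/
def monom (z : ι → ℂ) (α : ι →₀ ℕ) : ℂ := α.prod fun i m => z i ^ m

theorem monom_single_add (z : ι → ℂ) (i : ι) (m : ℕ) (α : ι →₀ ℕ) :
    monom z (Finsupp.single i m + α) = z i ^ m * monom z α := by
  classical
  unfold monom
  rw [Finsupp.prod_add_index' (fun _ => pow_zero _) fun _ _ _ => pow_add _ _ _,
    Finsupp.prod_single_index (h := fun j m => z j ^ m) (pow_zero _)]

theorem hasSum_monom_finset (hz : ∀ i, ‖z i‖ < 1) (T : Finset ι) :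
    HasSum (fun α : {α : ι →₀ ℕ // α.support ⊆ T} => monom z α.1) (∏ i ∈ T, (1 - z i)⁻¹) ∧
      HasSum (fun α : {α : ι →₀ ℕ // α.support ⊆ T} => ‖monom z α.1‖) (∏ i ∈ T, (1 - ‖z i‖)⁻¹) := by
  classical
  induction T using Finset.induction with
  | empty =>
    haveI : Unique {α : ι →₀ ℕ // α.support ⊆ ∅} :=
      ⟨⟨⟨0, by simp⟩⟩, fun a => Subtype.ext (by simpa using a.2)⟩
    constructor
    · convert hasSum_unique (fun α : {α : ι →₀ ℕ // α.support ⊆ ∅} => monom z α.1) using 1
      rw [Finset.prod_empty, Subsingleton.elim default (⟨0, by simp⟩ : {α : ι →₀ ℕ // α.support ⊆ ∅})]; simp [monom]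
    · convert hasSum_unique (fun α : {α : ι →₀ ℕ // α.support ⊆ ∅} => ‖monom z α.1‖) using 1
      rw [Finset.prod_empty, Subsingleton.elim default (⟨0, by simp⟩ : {α : ι →₀ ℕ // α.support ⊆ ∅})]; simp [monom]
  | insert a T ha ih =>
    obtain ⟨h1, h2⟩ := ih
    let e : ℕ × {α : ι →₀ ℕ // α.support ⊆ T} ≃ {α : ι →₀ ℕ // α.support ⊆ insert a T} :=
      { toFun := fun p => ⟨Finsupp.single a p.1 + p.2.1, Finsupp.support_add.trans
          (Finset.union_subset (Finsupp.support_single_subset.trans (by simp))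
            (p.2.2.trans (Finset.subset_insert a T)))⟩
        invFun := fun α => (α.1 a, ⟨α.1.erase a, by
          rw [Finsupp.support_erase]
          exact (Finset.erase_subset_erase a α.2).trans (Finset.erase_insert_subset a T)⟩)
        left_inv := fun p => by
          have h : p.2.1 a = 0 := Finsupp.notMem_support_iff.mp fun h => ha (p.2.2 h)
          refine Prod.ext (by simp [h]) (Subtype.ext ?_)
          ext j
          by_cases hj : j = a <;> simp [hj, h]
        right_inv := fun α => Subtype.ext (Finsupp.single_add_erase a α.1) }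
    have he : ∀ p, monom z (e p).1 = z a ^ p.1 * monom z p.2.1 := fun p => monom_single_add z a p.1 p.2.1
    have hg1 := hasSum_geometric_of_norm_lt_one (hz a)
    have hg2 := hasSum_geometric_of_lt_one (norm_nonneg (z a)) (hz a)
    have hs2 := Summable.mul_of_nonneg hg2.summable h2.summable
      (fun m => pow_nonneg (norm_nonneg (z a)) m) (fun α => norm_nonneg _)
    have hs2' : Summable fun p : ℕ × {α : ι →₀ ℕ // α.support ⊆ T} => z a ^ p.1 * monom z p.2.1 :=
      Summable.of_norm (by simpa only [norm_mul, norm_pow] using hs2)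
    rw [Finset.prod_insert ha, Finset.prod_insert ha]
    refine ⟨e.hasSum_iff.mp ?_, e.hasSum_iff.mp ?_⟩
    · exact (hg1.mul h1 hs2').congr_fun fun p => he p
    · exact (hg2.mul h2 hs2).congr_fun fun p => by simp [Function.comp, he p, norm_mul, norm_pow]

theorem summable_norm_monom {δ : ℝ} (hδ : δ < 1) (hz : ∀ i, ‖z i‖ ≤ δ) (hs : Summable fun i => ‖z i‖) :
    Summable fun α : ι →₀ ℕ => ‖monom z α‖ := by
  classical
  have hz' : ∀ i, ‖z i‖ < 1 := fun i => (hz i).trans_lt hδ
  refine summable_of_sum_le (c := Real.exp ((∑' i, ‖z i‖) / (1 - δ))) (fun α => norm_nonneg _) fun A => ?_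
  set T := A.biUnion Finsupp.support
  obtain ⟨-, h2⟩ := hasSum_monom_finset hz' T
  have hA : ∀ α ∈ A, α.support ⊆ T := fun α hα => Finset.subset_biUnion_of_mem Finsupp.support hα
  calc ∑ α ∈ A, ‖monom z α‖ = ∑ α ∈ A.subtype (fun α => α.support ⊆ T), ‖monom z α.1‖ :=
        (Finset.sum_subtype_of_mem (fun α => ‖monom z α‖) hA).symm
    _ ≤ ∏ i ∈ T, (1 - ‖z i‖)⁻¹ := sum_le_hasSum _ (fun α _ => norm_nonneg _) h2
    _ ≤ ∏ i ∈ T, Real.exp (‖z i‖ / (1 - δ)) := by
      refine Finset.prod_le_prod (fun i _ => inv_nonneg.mpr (sub_nonneg.mpr (hz' i).le)) fun i _ => ?_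
      have h1 : 0 < 1 - ‖z i‖ := sub_pos.mpr (hz' i)
      have h3 : (1 - ‖z i‖)⁻¹ = ‖z i‖ / (1 - ‖z i‖) + 1 := by field_simp; ring
      rw [h3]
      refine (Real.add_one_le_exp _).trans (Real.exp_le_exp.mpr ?_)
      exact div_le_div_of_nonneg_left (norm_nonneg _) (sub_pos.mpr hδ) (sub_le_sub_left (hz i) 1)
    _ = Real.exp (∑ i ∈ T, ‖z i‖ / (1 - δ)) := (Real.exp_sum _ _).symm
    _ ≤ _ := by
      rw [← Finset.sum_div]
      exact Real.exp_le_exp.mpr (div_le_div_of_nonneg_right
        (hs.sum_le_tsum T fun i _ => norm_nonneg _) (sub_nonneg.mpr hδ.le))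

theorem tsum_monom_ne_zero {δ : ℝ} (hδ : δ < 1) (hz : ∀ i, ‖z i‖ ≤ δ) (hs : Summable fun i => ‖z i‖) :
    ∑' α : ι →₀ ℕ, monom z α ≠ 0 := by
  classical
  have hz' : ∀ i, ‖z i‖ < 1 := fun i => (hz i).trans_lt hδ
  have h1 : Tendsto (fun T : Finset ι => ∏ i ∈ T, (1 - z i)⁻¹) atTop (𝓝 (∑' α : ι →₀ ℕ, monom z α)) := by
    have h : ∀ T : Finset ι, ∏ i ∈ T, (1 - z i)⁻¹ = ∑' α, Set.indicator {α : ι →₀ ℕ | α.support ⊆ T} (monom z) α :=
      fun T => ((hasSum_monom_finset hz' T).1.tsum_eq).symm.trans (tsum_subtype _ _)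
    simp_rw [h]
    refine tendsto_tsum_of_dominated_convergence (summable_norm_monom hδ hz hs) (fun α => ?_)
      (Eventually.of_forall fun T α => norm_indicator_le_norm_self _ _)
    refine tendsto_const_nhds.congr' ?_
    filter_upwards [eventually_ge_atTop α.support] with T hT
    exact (Set.indicator_of_mem (Set.mem_ofPred_eq ▸ hT : α ∈ {α : ι →₀ ℕ | α.support ⊆ T}) _).symm
  have h2 : Multipliable fun i => 1 + -z i := Complex.multipliable_one_add_of_summable hs.of_norm.neg
  have h3 : Tendsto (fun _ : Finset ι => (1 : ℂ)) atTop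
      (𝓝 ((∑' α : ι →₀ ℕ, monom z α) * ∏' i, (1 + -z i))) := by
    refine (h1.mul h2.hasProd).congr fun T => ?_
    rw [← Finset.prod_mul_distrib]
    refine Finset.prod_eq_one fun i _ => ?_
    rw [← sub_eq_add_neg, inv_mul_cancel₀]
    intro h
    have := hz' i
    rw [← sub_eq_zero.mp h, norm_one] at this
    exact lt_irrefl _ this
  intro h0
  rw [h0, zero_mul] at h3
  exact one_ne_zero (tendsto_nhds_unique tendsto_const_nhds h3)

/-- The number of elements of norm `n` of the free commutative monoid on `ι`. -/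
def normCount (N : ι → ℕ) (n : ℕ) : ℕ :=
  Nat.card { α : ι →₀ ℕ // (α.prod fun i m => N i ^ m) = n }

theorem lseries_normCount {N : ι → ℕ} (hN : ∀ i, 2 ≤ N i) {s : ℂ} (hs0 : 0 < s.re)
    (hs : Summable fun i => (N i : ℝ) ^ (-s.re)) :
    LSeriesSummable (fun n => (normCount N n : ℂ)) s ∧ LSeries (fun n => (normCount N n : ℂ)) s ≠ 0 := by
  have hs' : s ≠ 0 := fun h => by simp [h] at hs0
  set φ := riemannZetaSummandHom hs'
  set z : ι → ℂ := fun i => φ (N i)
  set δ : ℝ := (2 : ℝ) ^ (-s.re)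
  have hδ : δ < 1 := Real.rpow_lt_one_of_one_lt_of_neg (by norm_num) (by linarith)
  have hnorm : ∀ i, ‖z i‖ = (N i : ℝ) ^ (-s.re) := fun i => by
    show ‖(N i : ℂ) ^ (-s)‖ = _
    rw [Complex.norm_natCast_cpow_of_pos (by linarith [hN i]), Complex.neg_re]
  have hz : ∀ i, ‖z i‖ ≤ δ := fun i => by
    rw [hnorm]
    exact Real.rpow_le_rpow_of_nonpos (by norm_num) (by exact_mod_cast hN i) (by linarith)
  have hzs : Summable fun i => ‖z i‖ := by simp_rw [hnorm]; exact hs
  set Nα : (ι →₀ ℕ) → ℕ := fun α => α.prod fun i m => N i ^ m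
  have hmon : ∀ α, monom z α = φ (Nα α) := fun α => by
    simp only [monom, Nα, z, map_finsuppProd, map_pow]
  have hsum := (summable_norm_monom hδ hz hzs).of_norm.hasSum
  have hfib : ∀ n, ∑' a : {α // Nα α = n}, monom z a.1 = LSeries.term (fun n => (normCount N n : ℂ)) s n := by
    intro n
    rw [tsum_congr (fun a : {α // Nα α = n} => (hmon a.1).trans (congrArg φ a.2)), tsum_const, nsmul_eq_mul]
    rcases eq_or_ne n 0 with rfl | hn
    · simp
    · rw [LSeries.term_of_ne_zero hn, div_eq_mul_inv, ← Complex.cpow_neg]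
      rfl
  have h2 := ((Equiv.sigmaFiberEquiv Nα).hasSum_iff.mpr hsum).sigma
    fun n => ((summable_norm_monom hδ hz hzs).of_norm.comp_injective Subtype.val_injective).hasSum
  have h3 : HasSum (LSeries.term (fun n => (normCount N n : ℂ)) s) (∑' α, monom z α) :=
    h2.congr_fun fun n => (hfib n).symm
  refine ⟨h3.summable, ?_⟩
  rw [LSeries, h3.tsum_eq]
  exact tsum_monom_ne_zero hδ hz hzs

end Groth.Agent.ZetaLib
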