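import Groth.Agent.ZetaLib.CountScheme
import Groth.Agent.ZetaLib.EulerDirichlet
import Groth.Prelude.Def_W4c1zetahwZeta
import Mathlib.AlgebraicGeometry.Morphisms.ClosedImmersion
import Mathlib.FieldTheory.Finite.GaloisField
import Mathlib.Analysis.PSeries

/-!
# Convergence and non-vanishing of the zeta function of a scheme of finite type over `ℤ`
-/

universe u

noncomputable section

open AlgebraicGeometry CategoryTheory

namespace Groth.Agent.ZetaLib

theorem finite_of_finiteType_int (K : Type u) [Field K] (hft : (Int.castRingHom K).FiniteType) : Finite K := by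
  obtain ⟨p, hp⟩ := CharP.exists K
  rcases CharP.char_is_prime_or_zero K p with hpp | rfl
  · haveI : Fact p.Prime := ⟨hpp⟩
    letI := ZMod.algebra K p
    haveI : Algebra.FiniteType (ZMod p) K := by
      refine RingHom.finiteType_algebraMap.mp (RingHom.FiniteType.of_comp_finiteType (f := Int.castRingHom (ZMod p)) ?_)
      rw [Subsingleton.elim ((algebraMap (ZMod p) K).comp (Int.castRingHom (ZMod p))) (Int.castRingHom K)]
      exact hft
    haveI : Module.Finite (ZMod p) K := finite_of_finite_type_of_isJacobsonRing (ZMod p) K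
    exact Module.finite_of_finite (ZMod p)
  · exact absurd (CharP.charP_to_charZero K) (not_charZero_of_finiteType_int K hft)

variable {X : Scheme.{u}}

theorem finite_residueField (f : X ⟶ Spec (CommRingCat.of (ULift.{u} ℤ))) [LocallyOfFiniteType f] {x : X}
    (hx : IsClosed ({x} : Set X)) : Finite (X.residueField x) := by
  haveI : IsClosedImmersion (X.fromSpecResidueField x) := isClosed_singleton_iff_isClosedImmersion.mp hx
  obtain ⟨φ, hφ⟩ : ∃ φ : CommRingCat.of (ULift.{u} ℤ) ⟶ X.residueField x,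
      Spec.map φ = X.fromSpecResidueField x ≫ f := ⟨_, Spec.map_preimage _⟩
  have h : LocallyOfFiniteType (Spec.map φ) := by rw [hφ]; infer_instance
  rw [HasRingHomProperty.Spec_iff (P := @LocallyOfFiniteType)] at h
  refine finite_of_finiteType_int _ ?_
  rw [Subsingleton.elim (Int.castRingHom (X.residueField x)) (φ.hom.comp (ULift.ringEquiv (R := ℤ)).symm.toRingHom)]
  exact h.comp (RingHom.FiniteType.of_surjective _ (ULift.ringEquiv (R := ℤ)).symm.surjective)

/-- The closed points. -/
abbrev ClosedPt (X : Scheme.{u}) := {x : X // IsClosed ({x} : Set X)}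

/-- The norm of a closed point. -/
def ptNorm (x : ClosedPt X) : ℕ := Nat.card (X.residueField x.1)

theorem cycleNormCount_eq (X : Scheme.{u}) (n : ℕ) : Zeta.cycleNormCount X n = normCount (ptNorm (X := X)) n := by
  classical
  let p : X → Prop := fun x => IsClosed ({x} : Set X)
  refine Nat.card_congr
    { toFun := fun α => ⟨α.1.subtypeDomain p,
        (Finsupp.prod_subtypeDomain_index (h := fun x m => Nat.card (X.residueField x) ^ m)
          fun x hx => α.2.1 x hx).trans α.2.2⟩
      invFun := fun β => ⟨β.1.embDomain (Function.Embedding.subtype p), fun x hx => ?_, ?_⟩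
      left_inv := fun α => Subtype.ext ?_
      right_inv := fun β => Subtype.ext ?_ }
  · rw [Finsupp.support_embDomain, Finset.mem_map] at hx
    obtain ⟨y, -, rfl⟩ := hx
    exact y.2
  · rw [Finsupp.prod_embDomain]; exact β.2
  · ext x
    by_cases hx : p x
    · exact (Finsupp.embDomain_apply_self (Function.Embedding.subtype p) _ ⟨x, hx⟩).trans rfl
    · rw [Finsupp.embDomain_of_notMem_range _ _ _ (by simpa using hx)]
      exact (Finsupp.notMem_support_iff.mp fun h => hx (α.2.1 x h)).symm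
  · ext y
    exact Finsupp.embDomain_apply_self (Function.Embedding.subtype p) _ y

theorem card_ptNorm_le (F : Type u) [Field F] [Finite F] [Finite (Spec (CommRingCat.of F) ⟶ X)] :
    Finite {x : ClosedPt X // ptNorm x = Nat.card F} ∧
      Nat.card {x : ClosedPt X // ptNorm x = Nat.card F} ≤ Nat.card (Spec (CommRingCat.of F) ⟶ X) := by
  have he : ∀ x : {x : ClosedPt X // ptNorm x = Nat.card F}, Nonempty (X.residueField x.1.1 ≃+* F) := by
    intro x
    haveI : Finite (X.residueField x.1.1) :=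
      Nat.finite_of_card_ne_zero (x.2.trans_ne Nat.card_pos.ne')
    letI := Fintype.ofFinite F
    letI := Fintype.ofFinite (X.residueField x.1.1)
    exact ⟨FiniteField.ringEquivOfCardEq (by simpa [ptNorm] using x.2)⟩
  let Φ : {x : ClosedPt X // ptNorm x = Nat.card F} → (Spec (CommRingCat.of F) ⟶ X) := fun x =>
    Spec.map (CommRingCat.ofHom (he x).some.toRingHom) ≫ X.fromSpecResidueField x.1.1
  have hpt : ∀ (x : X) (g : Spec (CommRingCat.of F) ⟶ Spec (X.residueField x)),
      (g ≫ X.fromSpecResidueField x) (IsLocalRing.closedPoint F) = x := fun x g => by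
    exact (Scheme.Hom.comp_apply _ _ _).trans (X.fromSpecResidueField_apply _ _)
  have hΦ : Function.Injective Φ := fun a b h => by
    refine Subtype.ext (Subtype.ext ?_)
    rw [← hpt a.1.1 (Spec.map (CommRingCat.ofHom (he a).some.toRingHom)),
      ← hpt b.1.1 (Spec.map (CommRingCat.ofHom (he b).some.toRingHom))]
    exact congrArg (fun g : Spec (CommRingCat.of F) ⟶ X => g (IsLocalRing.closedPoint F)) h
  exact ⟨Finite.of_injective Φ hΦ, Nat.card_le_card_of_injective Φ hΦ⟩

theorem abscissa_le_and_ne_zero (f : X ⟶ Spec (CommRingCat.of (ULift.{u} ℤ))) [LocallyOfFiniteType f]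
    [QuasiCompact f] (r : ℕ) (hr : topologicalKrullDim X ≤ r) :
    LSeries.abscissaOfAbsConv (Zeta.arithCoeff X) ≤ (r : ℝ) ∧
      ∀ s : ℂ, (r : ℝ) < s.re → LSeries (Zeta.arithCoeff X) s ≠ 0 := by
  classical
  obtain ⟨c, p₀, hc⟩ := exists_const_card_points_le f hr
  have hfin : ∀ x : ClosedPt X, Finite (X.residueField x.1) := fun x => finite_residueField f x.2
  have hN : ∀ x : ClosedPt X, 2 ≤ ptNorm x := fun x => by
    haveI := hfin x; exact Finite.one_lt_card (α := X.residueField x.1)
  -- the fibres of the norm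
  set a : ℕ → ℕ := fun n => Nat.card {x : ClosedPt X // ptNorm x = n}
  have hfib : ∀ n, Finite {x : ClosedPt X // ptNorm x = n} ∧ (a n ≠ 0 → a n ≤ c * n ^ r ∧
      ∃ p m, p.Prime ∧ n = p ^ m ∧ (p₀ ≤ p → a n * n ≤ c * n ^ r)) := by
    intro n
    rcases isEmpty_or_nonempty {x : ClosedPt X // ptNorm x = n} with h | ⟨⟨x, hx⟩⟩
    · exact ⟨inferInstance, fun h0 => absurd Nat.card_of_isEmpty h0⟩
    subst hx
    haveI := hfin x
    let F := X.residueField x.1
    obtain ⟨h1, h2, h3⟩ := hc F
    haveI := h3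
    obtain ⟨h4, h5⟩ := card_ptNorm_le (X := X) F
    refine ⟨h4, fun _ => ⟨h5.trans h1, ?_⟩⟩
    letI := Fintype.ofFinite F
    obtain ⟨p, hp⟩ := CharP.exists F
    obtain ⟨m, hpp, hm⟩ := FiniteField.card F p
    refine ⟨p, m, hpp, (Nat.card_eq_fintype_card (α := F)).trans hm, fun hp0 => ?_⟩
    exact (Nat.mul_le_mul_right _ h5).trans (h2 (by rwa [ringChar.eq F p]))
  have key : ∀ s : ℂ, (r : ℝ) < s.re →
      LSeriesSummable (Zeta.arithCoeff X) s ∧ LSeries (Zeta.arithCoeff X) s ≠ 0 := by
    intro s hs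
    have hcoe : Zeta.arithCoeff X = fun n => (normCount (ptNorm (X := X)) n : ℂ) :=
      funext fun n => congrArg Nat.cast (cycleNormCount_eq X n)
    rw [hcoe]
    have hσ : 0 < s.re := lt_of_le_of_lt (Nat.cast_nonneg r) hs
    refine lseries_normCount hN hσ ?_
    set σ := s.re
    refine (Equiv.sigmaFiberEquiv (ptNorm (X := X))).summable_iff.mp ?_
    refine (summable_sigma_of_nonneg (β := fun n => {x : ClosedPt X // ptNorm x = n}) fun x =>
      Real.rpow_nonneg (Nat.cast_nonneg _) _).mpr ?_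
    refine ⟨fun n => by haveI := (hfib n).1; exact Summable.of_finite, ?_⟩
    have hval : ∀ n, ∑' y : {x : ClosedPt X // ptNorm x = n}, (ptNorm y.1 : ℝ) ^ (-σ) = a n * (n : ℝ) ^ (-σ) := by
      intro n
      rw [tsum_congr (fun y : {x : ClosedPt X // ptNorm x = n} => by rw [y.2]), tsum_const, nsmul_eq_mul]
    refine Summable.congr ?_ fun n => (hval n).symm
    set B : ℕ → ℕ → ℝ := fun p n => Set.indicator (Set.range (p ^ · : ℕ → ℕ)) (fun n => (c : ℝ) * (n : ℝ) ^ ((r : ℝ) - σ)) n
    have hB : ∀ p ∈ (Finset.range p₀).filter Nat.Prime, Summable (B p) := by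
      intro p hp
      have hp' := (Finset.mem_filter.mp hp).2
      refine ((Nat.pow_right_injective hp'.two_le).summable_iff fun n hn => Set.indicator_of_notMem hn _).mp ?_
      have h1 : (p : ℝ) ^ ((r : ℝ) - σ) < 1 :=
        Real.rpow_lt_one_of_one_lt_of_neg (by exact_mod_cast hp'.one_lt) (by linarith)
      refine ((summable_geometric_of_lt_one (Real.rpow_nonneg (Nat.cast_nonneg p) _) h1).mul_left (c : ℝ)).congr
        fun m => ?_
      have hm : B p (p ^ m) = (c : ℝ) * ((p ^ m : ℕ) : ℝ) ^ ((r : ℝ) - σ) :=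
        Set.indicator_of_mem (s := Set.range (p ^ · : ℕ → ℕ)) ⟨m, rfl⟩ _
      show _ = B p (p ^ m)
      rw [hm, Nat.cast_pow,
        ← Real.rpow_natCast ((p : ℝ) ^ _), ← Real.rpow_natCast (p : ℝ) m, ← Real.rpow_mul (Nat.cast_nonneg p),
        ← Real.rpow_mul (Nat.cast_nonneg p), mul_comm ((r : ℝ) - σ)]
    have hA : Summable fun n : ℕ => (c : ℝ) * (n : ℝ) ^ ((r : ℝ) - 1 - σ) :=
      (Real.summable_nat_rpow.mpr (by linarith)).mul_left _
    refine Summable.of_nonneg_of_le (fun n => mul_nonneg (Nat.cast_nonneg _) (Real.rpow_nonneg (Nat.cast_nonneg _) _))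
      (fun n => ?_) (hA.add (summable_sum hB))
    have hA0 : ∀ n : ℕ, 0 ≤ (c : ℝ) * (n : ℝ) ^ ((r : ℝ) - 1 - σ) :=
      fun n => mul_nonneg (Nat.cast_nonneg _) (Real.rpow_nonneg (Nat.cast_nonneg _) _)
    have hB0 : ∀ p n, 0 ≤ B p n :=
      fun p n => Set.indicator_nonneg (fun n _ => mul_nonneg (Nat.cast_nonneg _) (Real.rpow_nonneg (Nat.cast_nonneg _) _)) n
    by_cases ha : a n = 0
    · rw [ha, Nat.cast_zero, zero_mul]
      exact add_nonneg (hA0 n) (Finset.sum_nonneg fun p _ => hB0 p n)
    obtain ⟨h1, p, m, hp, hn, h2⟩ := (hfib n).2 ha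
    have hn0 : (0 : ℝ) < n := by rw [hn, Nat.cast_pow]; exact pow_pos (Nat.cast_pos.mpr hp.pos) _
    by_cases hp0 : p₀ ≤ p
    · refine le_add_of_le_of_nonneg ?_ (Finset.sum_nonneg fun p _ => hB0 p n)
      have h3 : (a n : ℝ) * n ≤ c * (n : ℝ) ^ r := by exact_mod_cast h2 hp0
      rw [Real.rpow_sub hn0, Real.rpow_sub hn0, Real.rpow_natCast, Real.rpow_one, Real.rpow_neg hn0.le,
        ← div_eq_mul_inv, mul_div_assoc']
      gcongr
      rw [mul_div_assoc', le_div_iff₀ hn0]
      exact h3
    · refine le_add_of_nonneg_of_le (hA0 n) (le_trans ?_ (Finset.single_le_sum (fun p _ => hB0 p n)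
        (Finset.mem_filter.mpr ⟨Finset.mem_range.mpr (not_le.mp hp0), hp⟩)))
      have hm : B p n = (c : ℝ) * (n : ℝ) ^ ((r : ℝ) - σ) :=
        Set.indicator_of_mem (s := Set.range (p ^ · : ℕ → ℕ)) ⟨m, hn.symm⟩ _
      rw [hm, sub_eq_add_neg (r : ℝ), Real.rpow_add hn0, Real.rpow_natCast, ← mul_assoc]
      exact mul_le_mul_of_nonneg_right (by exact_mod_cast h1) (Real.rpow_nonneg hn0.le _)
  refine ⟨LSeries.abscissaOfAbsConv_le_of_forall_lt_LSeriesSummable fun y hy => (key y ?_).1,
    fun s hs => (key s hs).2⟩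
  simpa using hy

end Groth.Agent.ZetaLib
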