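import Groth.Agent.ZetaLib.CountRing
import Mathlib.Algebra.Algebra.ZMod
import Mathlib.AlgebraicGeometry.Morphisms.FiniteType
import Mathlib.RingTheory.Spectrum.Prime.Topology
import Mathlib.Algebra.Field.ZMod
import Mathlib.Topology.KrullDimension
import Mathlib.AlgebraicGeometry.Morphisms.QuasiCompact

/-!
# Counting points of schemes in finite fields
-/

universe u v w

noncomputable section

open AlgebraicGeometry CategoryTheory

namespace Groth.Agent.ZetaLib

theorem exists_const_card_ringHom_le_charP (A : Type v) [CommRing A] (hft : (Int.castRingHom A).FiniteType)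
    (p : ℕ) [Fact p.Prime] [CharP A p] {r : ℕ} (hr : ringKrullDim A ≤ r) :
    ∃ c : ℕ, ∀ (F : Type w) [Field F] [Finite F],
      Finite (A →+* F) ∧ Nat.card (A →+* F) ≤ c * Nat.card F ^ r ∧ (ringChar F ≠ p → Nat.card (A →+* F) = 0) := by
  letI := ZMod.algebra A p
  haveI : Algebra.FiniteType (ZMod p) A := by
    refine RingHom.finiteType_algebraMap.mp (RingHom.FiniteType.of_comp_finiteType (f := Int.castRingHom (ZMod p)) ?_)
    rw [Subsingleton.elim ((algebraMap (ZMod p) A).comp (Int.castRingHom (ZMod p))) (Int.castRingHom A)]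
    exact hft
  obtain ⟨c, hc⟩ := exists_const_card_algHom_le.{0, v, w} (ZMod p) A hr
  refine ⟨c, fun F _ _ => ?_⟩
  by_cases hF : ringChar F = p
  · haveI : CharP F p := hF ▸ ringChar.charP F
    letI := ZMod.algebra F p
    let e : (A →+* F) ≃ (A →ₐ[ZMod p] F) :=
      { toFun := fun φ => { φ with commutes' := fun z => RingHom.congr_fun (Subsingleton.elim (φ.comp (algebraMap (ZMod p) A)) (algebraMap (ZMod p) F)) z }
        invFun := fun φ => φ.toRingHom
        left_inv := fun φ => rfl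
        right_inv := fun φ => AlgHom.ext fun x => rfl }
    obtain ⟨h1, h2⟩ := hc F
    haveI := h1
    exact ⟨Finite.of_equiv _ e.symm, by rw [Nat.card_congr e]; exact h2, fun h => absurd hF h⟩
  · haveI : IsEmpty (A →+* F) := ⟨fun φ => by
      refine hF ?_
      have h0 : (p : F) = 0 := by rw [← map_natCast φ, CharP.cast_eq_zero, map_zero]
      obtain ⟨q, _⟩ := CharP.exists F
      rw [ringChar.eq F q]
      exact (Nat.prime_dvd_prime_iff_eq (CharP.char_is_prime F q) Fact.out).mp ((CharP.cast_eq_zero_iff F q p).mp h0)⟩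
    exact ⟨inferInstance, by simp, fun _ => by simp⟩

theorem finiteType_quotient_int {A : Type v} [CommRing A] (hft : (Int.castRingHom A).FiniteType) (I : Ideal A) :
    (Int.castRingHom (A ⧸ I)).FiniteType := by
  rw [Subsingleton.elim (Int.castRingHom (A ⧸ I)) ((Ideal.Quotient.mk I).comp (Int.castRingHom A))]
  exact RingHom.FiniteType.comp (RingHom.FiniteType.of_surjective _ Ideal.Quotient.mk_surjective) hft

theorem exists_const_card_ringHom_le_charZero' (A : Type v) [CommRing A] [IsDomain A] [CharZero A]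
    (hft : (Int.castRingHom A).FiniteType) {r : ℕ} (hr : ringKrullDim A ≤ r) :
    ∃ (c : ℕ) (N : ℤ), N ≠ 0 ∧ ∀ (F : Type w) [Field F] [Finite F], (N : F) ≠ 0 →
      Finite (A →+* F) ∧ Nat.card (A →+* F) * Nat.card F ≤ c * Nat.card F ^ r := by
  haveI : Algebra.FiniteType ℤ A := by
    rw [← RingHom.finiteType_algebraMap, algebraMap_int_eq]; exact hft
  exact exists_const_card_ringHom_le_charZero A hr

theorem card_le_of_forall_factor {A F : Type*} [CommRing A] [CommRing F] {ι : Type*} [Fintype ι]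
    (I : ι → Ideal A) (hfin : ∀ i, Finite (A ⧸ I i →+* F))
    (h : ∀ φ : A →+* F, ∃ i, I i ≤ RingHom.ker φ) :
    Finite (A →+* F) ∧ Nat.card (A →+* F) ≤ ∑ i, Nat.card (A ⧸ I i →+* F) := by
  choose i hi using h
  let Φ : (A →+* F) → Σ i, A ⧸ I i →+* F := fun φ =>
    ⟨i φ, Ideal.Quotient.lift (I (i φ)) φ fun a ha => hi φ ha⟩
  have hΦ : Function.Injective Φ := fun φ ψ h => by
    have h2 := congrArg (fun t : Σ i, A ⧸ I i →+* F => t.2.comp (Ideal.Quotient.mk (I t.1))) h
    exact h2
  haveI := hfin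
  exact ⟨Finite.of_injective Φ hΦ, (Nat.card_le_card_of_injective Φ hΦ).trans Nat.card_sigma.le⟩

theorem exists_const_card_ringHom_le (A : Type v) [CommRing A] (hft : (Int.castRingHom A).FiniteType)
    {r : ℕ} (hr : ringKrullDim A ≤ r) :
    ∃ c p₀ : ℕ, ∀ (F : Type w) [Field F] [Finite F],
      Finite (A →+* F) ∧ Nat.card (A →+* F) ≤ c * Nat.card F ^ r ∧
        (p₀ ≤ ringChar F → Nat.card (A →+* F) * Nat.card F ≤ c * Nat.card F ^ r) := by
  classical
  -- the case of a domain
  have hdom : ∀ P : Ideal A, P.IsPrime → ∃ c p₀ : ℕ, ∀ (F : Type w) [Field F] [Finite F],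
      Finite (A ⧸ P →+* F) ∧ Nat.card (A ⧸ P →+* F) ≤ c * Nat.card F ^ r ∧
        (p₀ ≤ ringChar F → Nat.card (A ⧸ P →+* F) * Nat.card F ≤ c * Nat.card F ^ r) := by
    intro P hP
    have hr' : ringKrullDim (A ⧸ P) ≤ r := (ringKrullDim_quotient_le P).trans hr
    have hft' := finiteType_quotient_int hft P
    obtain ⟨p, hp⟩ := CharP.exists (A ⧸ P)
    rcases CharP.char_is_prime_or_zero (A ⧸ P) p with hpp | rfl
    · haveI : Fact p.Prime := ⟨hpp⟩
      obtain ⟨c, hc⟩ := exists_const_card_ringHom_le_charP.{v, w} (A ⧸ P) hft' p hr'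
      refine ⟨c, p + 1, fun F _ _ => ⟨(hc F).1, (hc F).2.1, fun h => ?_⟩⟩
      rw [(hc F).2.2 (by omega), zero_mul]
      exact Nat.zero_le _
    · haveI : CharZero (A ⧸ P) := CharP.charP_to_charZero _
      obtain ⟨c, N, hN, hc⟩ := exists_const_card_ringHom_le_charZero'.{v, w} (A ⧸ P) hft' hr'
      -- the finitely many bad characteristics
      have hbad : ∀ q : ℕ, ∃ c : ℕ, q.Prime → ∀ (F : Type w) [Field F] [Finite F], ringChar F = q →
          Finite (A ⧸ P →+* F) ∧ Nat.card (A ⧸ P →+* F) ≤ c * Nat.card F ^ r := by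
        intro q
        by_cases hq : q.Prime
        swap
        · exact ⟨0, fun h => absurd h hq⟩
        set I := Ideal.span {((q : ℕ) : A ⧸ P)}
        have hker : ∀ (F : Type w) [Field F], ringChar F = q → ∀ φ : A ⧸ P →+* F, I ≤ RingHom.ker φ := by
          intro F _ hF φ
          haveI : CharP F q := hF ▸ ringChar.charP F
          refine Ideal.span_le.mpr (Set.singleton_subset_iff.mpr ?_)
          simp [CharP.cast_eq_zero]
        rcases subsingleton_or_nontrivial ((A ⧸ P) ⧸ I) with hBs | hBn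
        · refine ⟨0, fun _ F _ _ hF => ?_⟩
          haveI : IsEmpty (A ⧸ P →+* F) := ⟨fun φ => RingHom.ker_ne_top φ (top_le_iff.mp
            ((Ideal.Quotient.subsingleton_iff.mp hBs).ge.trans (hker F hF φ)))⟩
          exact ⟨inferInstance, by simp⟩
        haveI : Fact q.Prime := ⟨hq⟩
        haveI : CharP ((A ⧸ P) ⧸ I) q := by
          obtain ⟨c', hc'⟩ := CharP.exists ((A ⧸ P) ⧸ I)
          have h0 : (q : (A ⧸ P) ⧸ I) = 0 := by
            rw [← map_natCast (Ideal.Quotient.mk I)]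
            exact Ideal.Quotient.eq_zero_iff_mem.mpr (Ideal.mem_span_singleton_self _)
          rcases (Nat.dvd_prime hq).mp ((CharP.cast_eq_zero_iff _ c' q).mp h0) with rfl | rfl
          · exact absurd rfl (CharP.ringChar_ne_one (R := (A ⧸ P) ⧸ I) |> fun h => (ringChar.eq ((A ⧸ P) ⧸ I) 1) ▸ h)
          · exact hc'
        obtain ⟨c, hc⟩ := exists_const_card_ringHom_le_charP.{v, w} ((A ⧸ P) ⧸ I)
          (finiteType_quotient_int hft' I) q ((ringKrullDim_quotient_le I).trans hr')
        refine ⟨c, fun _ F _ _ hF => ?_⟩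
        obtain ⟨h1, h2⟩ := card_le_of_forall_factor (ι := Unit) (fun _ => I) (fun _ => (hc F).1)
          (fun φ => ⟨(), hker F hF φ⟩)
        exact ⟨h1, h2.trans (by simpa using (hc F).2.1)⟩
      choose cq hcq using hbad
      refine ⟨c + ∑ q ∈ Finset.range (N.natAbs + 1), cq q, N.natAbs + 1, fun F _ _ => ?_⟩
      set q := ringChar F with hqdef
      haveI : CharP F q := ringChar.charP F
      have hqp : q.Prime := CharP.char_is_prime F q
      by_cases hNF : (N : F) = 0
      · have hdvd : (q : ℤ) ∣ N := (CharP.intCast_eq_zero_iff F q N).mp hNF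
        have hle : q ≤ N.natAbs := Nat.le_of_dvd (Int.natAbs_pos.mpr hN) (Int.natCast_dvd.mp hdvd)
        obtain ⟨h1, h2⟩ := hcq q hqp F rfl
        refine ⟨h1, h2.trans (Nat.mul_le_mul_right _ ?_), fun h => absurd h (by omega)⟩
        exact le_add_left (Finset.single_le_sum (fun i _ => Nat.zero_le _) (Finset.mem_range.mpr (by omega)))
      · obtain ⟨h1, h2⟩ := hc F hNF
        have h3 : c * Nat.card F ^ r ≤ (c + ∑ q ∈ Finset.range (N.natAbs + 1), cq q) * Nat.card F ^ r :=
          Nat.mul_le_mul_right _ (Nat.le_add_right _ _)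
        exact ⟨h1, (Nat.le_mul_of_pos_right _ Nat.card_pos).trans (h2.trans h3), fun _ => h2.trans h3⟩
  choose c p₀ hc using hdom
  haveI : Algebra.FiniteType ℤ A := by
    rw [← RingHom.finiteType_algebraMap, algebraMap_int_eq]; exact hft
  haveI : IsNoetherianRing A := Algebra.FiniteType.isNoetherianRing ℤ A
  haveI := (minimalPrimes.finite_of_isNoetherianRing A).to_subtype
  letI := Fintype.ofFinite (minimalPrimes A)
  have hmem : ∀ P : minimalPrimes A, (P : Ideal A).IsPrime := fun P => Ideal.minimalPrimes_isPrime P.2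
  refine ⟨∑ P : minimalPrimes A, c P (hmem P), ∑ P : minimalPrimes A, p₀ P (hmem P), fun F _ _ => ?_⟩
  obtain ⟨h1, h2⟩ := card_le_of_forall_factor (fun P : minimalPrimes A => (P : Ideal A))
    (fun P => (hc P (hmem P) F).1) (fun φ => by
      haveI : (RingHom.ker φ).IsPrime := RingHom.ker_isPrime φ
      obtain ⟨P, hP, hle⟩ := Ideal.exists_minimalPrimes_le (bot_le : ⊥ ≤ RingHom.ker φ)
      exact ⟨⟨P, hP⟩, hle⟩)
  refine ⟨h1, h2.trans ?_, fun hp => (Nat.mul_le_mul_right _ h2).trans ?_⟩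
  · rw [Finset.sum_mul]
    exact Finset.sum_le_sum fun P _ => (hc P (hmem P) F).2.1
  · rw [Finset.sum_mul, Finset.sum_mul]
    exact Finset.sum_le_sum fun P _ => (hc P (hmem P) F).2.2
      ((Finset.single_le_sum (fun i _ => Nat.zero_le _) (Finset.mem_univ P)).trans hp)

variable {X : Scheme.{u}}

theorem topologicalKrullDim_affine_le {U : X.Opens} (hU : IsAffineOpen U) {r : ℕ}
    (hr : topologicalKrullDim X ≤ r) : ringKrullDim Γ(X, U) ≤ r := by
  rw [← PrimeSpectrum.topologicalKrullDim_eq_ringKrullDim]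
  exact (hU.fromSpec.isOpenEmbedding.isInducing.topologicalKrullDim_le).trans hr

theorem exists_finite_affine_cover (X : Scheme.{u}) [CompactSpace X] :
    ∃ (t : Finset X.affineOpens), ∀ x : X, ∃ V ∈ t, x ∈ (V : X.Opens) := by
  obtain ⟨t, ht⟩ := isCompact_univ.elim_finite_subcover (fun V : X.affineOpens => ((V : X.Opens) : Set X))
    (fun V => V.1.isOpen) (fun x _ => by
      obtain ⟨V, hV, hxV, -⟩ := exists_isAffineOpen_mem_and_subset (X := X) (U := ⊤) (x := x) trivial
      exact Set.mem_iUnion.mpr ⟨⟨V, hV⟩, hxV⟩)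
  exact ⟨t, fun x => by simpa using ht (Set.mem_univ x)⟩

/-- A field valued point lies in an affine open of the cover. -/
theorem exists_factor_affine (F : Type u) [Field F] {t : Finset X.affineOpens}
    (ht : ∀ x : X, ∃ V ∈ t, x ∈ (V : X.Opens)) (g : Spec (CommRingCat.of F) ⟶ X) :
    ∃ (V : t) (ψ : Γ(X, (V.1 : X.Opens)) ⟶ CommRingCat.of F), Spec.map ψ ≫ V.1.2.fromSpec = g := by
  obtain ⟨V, hV, hxV⟩ := ht (g (IsLocalRing.closedPoint F))
  haveI : IsOpenImmersion V.2.fromSpec := V.2.isOpenImmersion_fromSpec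
  have hrange : Set.range g ⊆ Set.range V.2.fromSpec := by
    rintro _ ⟨s, rfl⟩
    rw [V.2.range_fromSpec, show s = IsLocalRing.closedPoint F from Subsingleton.elim (α := PrimeSpectrum F) _ _]
    exact hxV
  exact ⟨⟨V, hV⟩, Spec.preimage (IsOpenImmersion.lift V.2.fromSpec g hrange),
    by rw [Spec.map_preimage, IsOpenImmersion.lift_fac]⟩

theorem exists_const_card_points_le (f : X ⟶ Spec (CommRingCat.of (ULift.{u} ℤ))) [LocallyOfFiniteType f]
    [QuasiCompact f] {r : ℕ} (hr : topologicalKrullDim X ≤ r) :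
    ∃ c p₀ : ℕ, ∀ (F : Type u) [Field F] [Finite F],
      Nat.card (Spec (CommRingCat.of F) ⟶ X) ≤ c * Nat.card F ^ r ∧
        (p₀ ≤ ringChar F → Nat.card (Spec (CommRingCat.of F) ⟶ X) * Nat.card F ≤ c * Nat.card F ^ r) ∧
          Finite (Spec (CommRingCat.of F) ⟶ X) := by
  classical
  haveI : CompactSpace X := QuasiCompact.compactSpace_of_compactSpace f
  obtain ⟨t, ht⟩ := exists_finite_affine_cover X
  have hV : ∀ V : t, ∃ c p₀ : ℕ, ∀ (F : Type u) [Field F] [Finite F],
      Finite (Γ(X, (V.1 : X.Opens)) →+* F) ∧ Nat.card (Γ(X, (V.1 : X.Opens)) →+* F) ≤ c * Nat.card F ^ r ∧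
        (p₀ ≤ ringChar F → Nat.card (Γ(X, (V.1 : X.Opens)) →+* F) * Nat.card F ≤ c * Nat.card F ^ r) := by
    intro V
    refine exists_const_card_ringHom_le _ ?_ (topologicalKrullDim_affine_le V.1.2 hr)
    rw [Subsingleton.elim (Int.castRingHom Γ(X, (V.1 : X.Opens)))
      ((f.appLE ⊤ (V.1 : X.Opens) (by simp)).hom.comp
        ((Scheme.ΓSpecIso (CommRingCat.of (ULift.{u} ℤ))).inv.hom.comp (ULift.ringEquiv (R := ℤ)).symm.toRingHom))]
    refine RingHom.FiniteType.comp (f.finiteType_appLE (isAffineOpen_top _) V.1.2 (by simp)) ?_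
    exact RingHom.FiniteType.comp
      (RingHom.FiniteType.of_surjective _ (Scheme.ΓSpecIso _).symm.commRingCatIsoToRingEquiv.surjective)
      (RingHom.FiniteType.of_surjective _ (ULift.ringEquiv (R := ℤ)).symm.surjective)
  choose c p₀ hc using hV
  refine ⟨∑ V : t, c V, ∑ V : t, p₀ V, fun F _ _ => ?_⟩
  haveI : ∀ V : t, Finite (Γ(X, (V.1 : X.Opens)) →+* F) := fun V => (hc V F).1
  choose V ψ hψ using exists_factor_affine F ht
  let Φ : (Spec (CommRingCat.of F) ⟶ X) → Σ V : t, (Γ(X, (V.1 : X.Opens)) →+* F) := fun g => ⟨V g, (ψ g).hom⟩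
  have hΦ : Function.Injective Φ := fun g g' h => by
    have := congrArg (fun t : Σ V : t, (Γ(X, (V.1 : X.Opens)) →+* F) =>
      Spec.map (CommRingCat.ofHom t.2) ≫ t.1.1.2.fromSpec) h
    simpa [Φ, hψ] using this
  have h2 := (Nat.card_le_card_of_injective Φ hΦ).trans Nat.card_sigma.le
  refine ⟨h2.trans ?_, fun hp => (Nat.mul_le_mul_right _ h2).trans ?_, Finite.of_injective Φ hΦ⟩
  · rw [Finset.sum_mul]
    exact Finset.sum_le_sum fun V _ => (hc V F).2.1
  · rw [Finset.sum_mul, Finset.sum_mul]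
    exact Finset.sum_le_sum fun V _ => (hc V F).2.2
      ((Finset.single_le_sum (fun i _ => Nat.zero_le _) (Finset.mem_univ V)).trans hp)

theorem exists_const_pointCount_le {k : Type u} [Field k] (f : X ⟶ Spec (CommRingCat.of k))
    [LocallyOfFiniteType f] [QuasiCompact f] {r : ℕ} (hr : topologicalKrullDim X ≤ r) :
    ∃ c : ℕ, ∀ (F : Type u) [Field F] [Finite F] [Algebra k F],
      Nat.card { g : Spec (CommRingCat.of F) ⟶ X // g ≫ f = Spec.map (CommRingCat.ofHom (algebraMap k F)) } ≤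
        c * Nat.card F ^ r := by
  classical
  haveI : CompactSpace X := QuasiCompact.compactSpace_of_compactSpace f
  obtain ⟨t, ht⟩ := exists_finite_affine_cover X
  let φ : ∀ V : t, k →+* Γ(X, (V.1 : X.Opens)) := fun V =>
    ((Scheme.ΓSpecIso (CommRingCat.of k)).inv ≫ f.appLE ⊤ (V.1 : X.Opens) (by simp)).hom
  have hcomp : ∀ V : t, V.1.2.fromSpec ≫ f = Spec.map (CommRingCat.ofHom (φ V)) := by
    intro V
    rw [← IsAffineOpen.SpecMap_appLE_fromSpec f (isAffineOpen_top _) V.1.2 (by simp)]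
    simp [φ, IsAffineOpen.fromSpec_top, Scheme.isoSpec_Spec_inv, ← Spec.map_comp]
  have hV : ∀ V : t, ∃ c : ℕ, ∀ (F : Type u) [Field F] [Finite F] [Algebra k F],
      (letI := (φ V).toAlgebra
       Finite (Γ(X, (V.1 : X.Opens)) →ₐ[k] F) ∧
        Nat.card (Γ(X, (V.1 : X.Opens)) →ₐ[k] F) ≤ c * Nat.card F ^ r) := by
    intro V
    have hφ : (φ V).FiniteType :=
      RingHom.FiniteType.comp (f.finiteType_appLE (isAffineOpen_top _) V.1.2 (by simp))
        (RingHom.FiniteType.of_surjective _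
          (Scheme.ΓSpecIso (CommRingCat.of k)).symm.commRingCatIsoToRingEquiv.surjective)
    letI := (φ V).toAlgebra
    haveI : Algebra.FiniteType k Γ(X, (V.1 : X.Opens)) := hφ
    exact exists_const_card_algHom_le k _ (topologicalKrullDim_affine_le V.1.2 hr)
  choose c hc using hV
  refine ⟨∑ V : t, c V, fun F _ _ _ => ?_⟩
  have hex : ∀ g : { g : Spec (CommRingCat.of F) ⟶ X // g ≫ f = Spec.map (CommRingCat.ofHom (algebraMap k F)) },
      ∃ (V : t) (ψ : { ψ : Γ(X, (V.1 : X.Opens)) →+* F // ψ.comp (φ V) = algebraMap k F }),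
        Spec.map (CommRingCat.ofHom ψ.1) ≫ V.1.2.fromSpec = g.1 := by
    intro g
    obtain ⟨V, ψ, hψ⟩ := exists_factor_affine F ht g.1
    refine ⟨V, ⟨ψ.hom, ?_⟩, hψ⟩
    have := g.2
    rw [← hψ, Category.assoc, hcomp, ← Spec.map_comp, Spec.map_inj, CommRingCat.hom_ext_iff] at this
    exact this
  choose V ψ hψ using hex
  let e : ∀ V : t, { ψ : Γ(X, (V.1 : X.Opens)) →+* F // ψ.comp (φ V) = algebraMap k F } →
      (letI := (φ V).toAlgebra
       Γ(X, (V.1 : X.Opens)) →ₐ[k] F) := fun V ψ =>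
    letI := (φ V).toAlgebra
    { ψ.1 with commutes' := fun r => RingHom.congr_fun ψ.2 r }
  haveI : ∀ V : t, Finite { ψ : Γ(X, (V.1 : X.Opens)) →+* F // ψ.comp (φ V) = algebraMap k F } := fun V => by
    letI := (φ V).toAlgebra
    haveI := (hc V F).1
    exact Finite.of_injective (e V) fun a b h => Subtype.ext (congrArg AlgHom.toRingHom h)
  let Φ : { g : Spec (CommRingCat.of F) ⟶ X // g ≫ f = Spec.map (CommRingCat.ofHom (algebraMap k F)) } →
      Σ V : t, { ψ : Γ(X, (V.1 : X.Opens)) →+* F // ψ.comp (φ V) = algebraMap k F } := fun g => ⟨V g, ψ g⟩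
  have hΦ : Function.Injective Φ := fun g g' h => by
    have := congrArg (fun t : Σ V : t, { ψ : Γ(X, (V.1 : X.Opens)) →+* F // ψ.comp (φ V) = algebraMap k F } =>
      Spec.map (CommRingCat.ofHom t.2.1) ≫ t.1.1.2.fromSpec) h
    exact Subtype.ext (by simpa [Φ, hψ] using this)
  refine ((Nat.card_le_card_of_injective Φ hΦ).trans Nat.card_sigma.le).trans ?_
  rw [Finset.sum_mul]
  refine Finset.sum_le_sum fun V _ => ?_
  letI := (φ V).toAlgebra
  haveI := (hc V F).1
  exact (Nat.card_le_card_of_injective (e V) fun a b h => Subtype.ext (congrArg AlgHom.toRingHom h)).trans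
    (hc V F).2

end Groth.Agent.ZetaLib
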