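import Groth.Agent.ZetaLib.AffineLine
import Mathlib.RingTheory.PowerSeries.Expand
import Mathlib.RingTheory.RootsOfUnity.PrimitiveRoots
import Mathlib.AlgebraicGeometry.Pullbacks
import Mathlib.Algebra.Field.GeomSum
import Mathlib.AlgebraicGeometry.Morphisms.FiniteType

/-!
# Zeta functions and finite extensions of the base field
-/

universe u

noncomputable section

open AlgebraicGeometry CategoryTheory Limits PowerSeries

namespace Groth.Agent.ZetaLib

variable {k : Type u} [Field k] {X : Scheme.{u}} (k' : Type u) [Field k'] [Algebra k k']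

theorem pointCount_baseChange (f : X ⟶ Spec (CommRingCat.of k)) (L : Type u) [Field L] [Algebra k L]
    [Algebra k' L] [IsScalarTower k k' L] :
    SgaExt.pointCount (pullback.snd f (Spec.map (CommRingCat.ofHom (algebraMap k k')))) L =
      SgaExt.pointCount f L := by
  have h : Spec.map (CommRingCat.ofHom (algebraMap k' L)) ≫ Spec.map (CommRingCat.ofHom (algebraMap k k')) =
      Spec.map (CommRingCat.ofHom (algebraMap k L)) := by
    rw [← Spec.map_comp, ← CommRingCat.ofHom_comp, ← IsScalarTower.algebraMap_eq]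
  refine Nat.card_congr
    { toFun := fun g => ⟨g.1 ≫ pullback.fst _ _, by
        rw [Category.assoc, pullback.condition, ← Category.assoc, g.2, h]⟩
      invFun := fun g => ⟨pullback.lift g.1 (Spec.map (CommRingCat.ofHom (algebraMap k' L))) (g.2.trans h.symm),
        pullback.lift_snd _ _ _⟩
      left_inv := fun g => Subtype.ext (pullback.hom_ext (pullback.lift_fst _ _ _) ((pullback.lift_snd _ _ _).trans g.2.symm))
      right_inv := fun g => Subtype.ext (pullback.lift_fst _ _ _) }

variable [Finite k] [Finite k']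

theorem nPts_baseChange (f : X ⟶ Spec (CommRingCat.of k)) [LocallyOfFiniteType f] [QuasiCompact f] (m : ℕ) :
    Zeta.nPts (pullback.snd f (Spec.map (CommRingCat.ofHom (algebraMap k k')))) m =
      Zeta.nPts f (Module.finrank k k' * m) := by
  rcases eq_or_ne m 0 with rfl | hm
  · simp [nPts_zero]
  obtain ⟨L, _, _, _, hL⟩ := exists_extension k' hm
  letI : Algebra k L := ((algebraMap k' L).comp (algebraMap k k')).toAlgebra
  haveI : IsScalarTower k k' L := IsScalarTower.of_algebraMap_eq' rfl
  rw [← hL, ← pointCount_eq_nPts L, Module.finrank_mul_finrank k k' L, ← pointCount_eq_nPts L,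
    pointCount_baseChange]

theorem expand_expS {K : Type*} [Field K] [CharZero K] {L : PowerSeries K} (hL : constantCoeff L = 0)
    {r : ℕ} (hr : r ≠ 0) : expand r hr (PowExp.expS L) = PowExp.expS (expand r hr L) := by
  rw [expand_apply, expand_apply, PowExp.expS, PowExp.expS,
    subst_comp_subst_apply (HasSubst.of_constantCoeff_zero' hL) (HasSubst.X_pow hr)]

theorem sum_rootsOfUnity_pow {r : ℕ} {ξ : ℂ} (hξ : IsPrimitiveRoot ξ r) (j : ℕ) :
    ∑ i ∈ Finset.range r, (ξ ^ i) ^ j = if r ∣ j then (r : ℂ) else 0 := by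
  simp_rw [← pow_mul, mul_comm _ j, pow_mul]
  split_ifs with h
  · simp [(hξ.pow_eq_one_iff_dvd j).mpr h]
  · rw [geom_sum_eq (fun h' => h ((hξ.pow_eq_one_iff_dvd j).mp h')), ← pow_mul, mul_comm, pow_mul,
      hξ.pow_eq_one, one_pow, sub_self, zero_div]

theorem zetaFun_baseChange (f : X ⟶ Spec (CommRingCat.of k)) [LocallyOfFiniteType f] [QuasiCompact f]
    (ξ : ℂ) (hξ : IsPrimitiveRoot ξ (Module.finrank k k')) :
    subst ((PowerSeries.X : PowerSeries ℂ) ^ Module.finrank k k')
        (PowerSeries.map (algebraMap ℚ ℂ) (Zeta.zetaFun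
          (pullback.snd f (Spec.map (CommRingCat.ofHom (algebraMap k k')))))) =
      ∏ i ∈ Finset.range (Module.finrank k k'),
        rescale (ξ ^ i) (PowerSeries.map (algebraMap ℚ ℂ) (Zeta.zetaFun f)) := by
  haveI : Module.Finite k k' := .of_finite
  set r := Module.finrank k k' with hr
  have hr0 : r ≠ 0 := Module.finrank_pos.ne'
  set f' := pullback.snd f (Spec.map (CommRingCat.ofHom (algebraMap k k')))
  have hc : ∀ {Y : Scheme.{u}} {K : Type u} [Field K] (g : Y ⟶ Spec (CommRingCat.of K)),
      constantCoeff (Zeta.logZeta g) = 0 := fun g => by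
    simp [Zeta.logZeta, ← coeff_zero_eq_constantCoeff_apply, nPts_zero]
  have hmap : ∀ L : PowerSeries ℚ, constantCoeff L = 0 →
      constantCoeff (PowerSeries.map (algebraMap ℚ ℂ) L) = 0 := fun L hL => by
    rw [← coeff_zero_eq_constantCoeff_apply, coeff_map, coeff_zero_eq_constantCoeff_apply, hL, map_zero]
  show subst _ (PowerSeries.map _ (PowExp.expS (Zeta.logZeta f'))) =
    ∏ i ∈ Finset.range r, rescale _ (PowerSeries.map _ (PowExp.expS (Zeta.logZeta f)))
  rw [PowExp.map_expS _ (hc f'), PowExp.map_expS _ (hc f), ← expand_apply r hr0,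
    expand_expS (hmap _ (hc f')) hr0]
  simp_rw [expS_rescale _ (hmap _ (hc f))]
  rw [← PowExp.expS_sum _ _ fun i _ => by
    rw [← coeff_zero_eq_constantCoeff_apply, coeff_rescale, coeff_zero_eq_constantCoeff_apply, hmap _ (hc f), mul_zero]]
  congr 1
  ext j
  rw [map_sum]
  simp only [coeff_rescale, coeff_map, Zeta.logZeta, coeff_mk, ← Finset.sum_mul, sum_rootsOfUnity_pow hξ]
  split_ifs with h
  · obtain ⟨m, rfl⟩ := h
    rw [coeff_expand_mul, coeff_map, coeff_mk, nPts_baseChange k' f m, ← hr]
    rcases eq_or_ne m 0 with rfl | hm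
    · simp
    · have : (r : ℂ) ≠ 0 := Nat.cast_ne_zero.mpr hr0
      simp only [map_div₀, map_natCast, map_mul, Nat.cast_mul]
      field_simp
  · rw [coeff_expand_of_not_dvd r hr0 _ h, zero_mul]

end Groth.Agent.ZetaLib
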