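import Groth.Agent.Weil.FrobCount
import Groth.Prelude.Def_FinFr

/-!
# The scheme of fixed points of the geometric Frobenius
-/

universe u

noncomputable section

open AlgebraicGeometry CategoryTheory CategoryTheory.Limits

namespace Groth.Agent.ZetaLib

variable {k : Type u} [Field k] [IsAlgClosed k] {k₀ : Type u} [Field k₀] [Finite k₀] [Algebra k₀ k]
variable {X Xb Z : Scheme.{u}} (f : X ⟶ Spec (CommRingCat.of k₀)) (FX : X ⟶ X)
  (hFb : FX.base = 𝟙 _) (hle : ∀ U : X.Opens, U ≤ FX ⁻¹ᵁ U)
  (hFapp : ∀ (U : X.Opens) (s : Γ(X, U)), (FX.appLE U U (hle U)).hom s = s ^ Nat.card k₀)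
  (π : Xb ⟶ X) (str : Xb ⟶ Spec (CommRingCat.of k))
  (hπ : IsPullback π str f (Spec.map (CommRingCat.ofHom (algebraMap k₀ k))))
  (F : Xb ⟶ Xb) (hF : F ≫ π = π ≫ FX) (hFs : F ≫ str = str)

include hFb hle hFapp hπ hF hFs in
/-- An infinitesimal thickening of a point is killed by the geometric Frobenius. -/
theorem factor_frob {A : CommRingCat.{u}} [IsLocalRing A] (ι : CommRingCat.of k ⟶ A)
    (ε : A ⟶ CommRingCat.of k) (hιε : ι ≫ ε = 𝟙 _)
    (hsq : ∀ a, (a - ι.hom (ε.hom a)) * (a - ι.hom (ε.hom a)) = 0)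
    (h : Spec A ⟶ Xb) (hh : h ≫ str = Spec.map ι) :
    h ≫ F = Spec.map ι ≫ Spec.map ε ≫ h ≫ F := by
  obtain ⟨p, hchar⟩ := CharP.exists k₀
  letI := Fintype.ofFinite k₀
  obtain ⟨e, hp, hcard⟩ := FiniteField.card k₀ p
  haveI : Fact p.Prime := ⟨hp⟩
  rw [Nat.card_eq_fintype_card, hcard] at hFapp
  haveI : CharP k p := charP_of_injective_algebraMap (algebraMap k₀ k).injective p
  haveI : CharP A p := charP_of_injective_ringHom ι.hom.injective p
  haveI : ExpChar k p := .prime hp
  haveI : ExpChar A p := .prime hp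
  refine hπ.hom_ext ?_ ?_
  · simp only [Category.assoc, hF]
    have hpow : iterateFrobenius A p e = ι.hom.comp ((iterateFrobenius k p e).comp ε.hom) := by
      ext a
      simp only [RingHom.comp_apply, iterateFrobenius_def, map_pow]
      have h0 : (a - ι.hom (ε.hom a)) ^ p ^ (e : ℕ) = 0 := by
        refine pow_eq_zero_of_le (?_ : 2 ≤ p ^ (e : ℕ)) (by rw [pow_two]; exact hsq a)
        exact le_trans hp.two_le (Nat.le_self_pow e.pos.ne' p)
      rw [sub_pow_expChar_pow, sub_eq_zero] at h0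
      exact h0
    haveI : IsLocalRing (CommRingCat.of k) := inferInstanceAs (IsLocalRing k)
    have h2 := Weil.spec_comp_powEndo FX _ hFb hle hFapp (A := CommRingCat.of k) (iterateFrobenius k p e)
      (fun a => iterateFrobenius_def ..) (Spec.map ε ≫ h ≫ π)
    simp only [Category.assoc] at h2
    rw [h2, ← Category.assoc h π, Weil.spec_comp_powEndo FX _ hFb hle hFapp (iterateFrobenius A p e)
      (fun a => iterateFrobenius_def ..), hpow]
    simp only [← Category.assoc, ← Spec.map_comp]
    rfl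
  · simp only [Category.assoc, hFs, hh, ← Spec.map_comp, hιε, Category.id_comp]

variable (g : Z ⟶ Xb) [Mono g] [LocallyOfFiniteType (g ≫ str)] (hg : g ≫ F = g)

include hFb hle hFapp hπ hF hFs hg in
theorem isField_stalk {z : Z} (hz : IsClosed ({z} : Set Z)) : IsField (Z.presheaf.stalk z) := by
  set R := Z.presheaf.stalk z
  set m' := IsLocalRing.maximalIdeal R
  let I' : Ideal R := m' * m'
  have hI' : I' ≤ m' := Ideal.mul_le_left
  haveI : Nontrivial (R ⧸ I') := Ideal.Quotient.nontrivial_iff.mpr fun h =>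
    (IsLocalRing.maximalIdeal.isMaximal R).ne_top (top_le_iff.mp (h ▸ hI'))
  haveI : IsLocalRing (R ⧸ I') := IsLocalRing.of_surjective' (Ideal.Quotient.mk I') Ideal.Quotient.mk_surjective
  let A : CommRingCat.{u} := CommRingCat.of (R ⧸ I')
  haveI : IsLocalRing A := inferInstanceAs (IsLocalRing (R ⧸ I'))
  let mkA : R ⟶ A := CommRingCat.ofHom (Ideal.Quotient.mk I')
  let hA : Spec A ⟶ Z := Spec.map mkA ≫ Z.fromSpecStalk z
  let ι : CommRingCat.of k ⟶ A := Spec.preimage (hA ≫ g ≫ str)
  have hh : (hA ≫ g) ≫ str = Spec.map ι := (Category.assoc _ _ _).trans (Spec.map_preimage _).symm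
  let ρ : A ⟶ Z.residueField z := CommRingCat.ofHom
    (Ideal.Quotient.lift I' (Z.residue z).hom fun a ha => (IsLocalRing.residue_eq_zero_iff a).mpr (hI' ha))
  let ε : A ⟶ CommRingCat.of k := ρ ≫ (residueFieldIsoBase (g ≫ str) z hz).hom
  have hεA : Spec.map ε ≫ hA = pointOfClosedPoint (g ≫ str) z hz := by
    rw [Spec.map_comp, Category.assoc, pointOfClosedPoint]
    congr 1
    show Spec.map ρ ≫ Spec.map mkA ≫ Z.fromSpecStalk z = _
    rw [← Spec.map_comp_assoc]
    rfl
  have hιε : ι ≫ ε = 𝟙 _ := by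
    refine Spec.map_injective ?_
    rw [Spec.map_comp, ← hh, Category.assoc hA g, ← Category.assoc, hεA, pointOfClosedPoint_comp, Spec.map_id]
  have hsq : ∀ a : A, (a - ι.hom (ε.hom a)) * (a - ι.hom (ε.hom a)) = 0 := by
    intro a
    obtain ⟨b, hb⟩ := Ideal.Quotient.mk_surjective (a - ι.hom (ε.hom a))
    have hρ : ρ.hom (a - ι.hom (ε.hom a)) = 0 := by
      have hε0 : ε.hom (a - ι.hom (ε.hom a)) = 0 := by
        rw [map_sub, ← RingHom.comp_apply ε.hom ι.hom, ← CommRingCat.hom_comp, hιε]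
        simp
      exact ((residueFieldIsoBase (g ≫ str) z hz).commRingCatIsoToRingEquiv.injective
        (hε0.trans (map_zero _).symm))
    rw [← hb] at hρ ⊢
    have hbm : b ∈ m' := (IsLocalRing.residue_eq_zero_iff b).mp hρ
    rw [← map_mul]
    exact Ideal.Quotient.eq_zero_iff_mem.mpr (Ideal.mul_mem_mul hbm hbm)
  have e3 := factor_frob f FX hFb hle hFapp π str hπ F hF hFs ι ε hιε hsq (hA ≫ g) hh
  rw [Category.assoc, hg, ← Category.assoc (Spec.map ι), ← Category.assoc (Spec.map ι ≫ Spec.map ε),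
    cancel_mono, Category.assoc, hεA] at e3
  have hpt : pointOfClosedPoint (g ≫ str) z hz =
      Spec.map (Z.residue z ≫ (residueFieldIsoBase (g ≫ str) z hz).hom) ≫ Z.fromSpecStalk z := by
    rw [Spec.map_comp, Category.assoc]; rfl
  rw [hpt, ← Spec.map_comp_assoc] at e3
  have e4 := Spec.map_injective ((cancel_mono (Z.fromSpecStalk z)).mp e3)
  have hm : m' ≤ ⊥ ⊔ m' • m' := fun a ha => by
    rw [bot_sup_eq, smul_eq_mul]
    refine Ideal.Quotient.eq_zero_iff_mem.mp ?_
    show mkA.hom a = 0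
    rw [e4]
    simp [show (Z.residue z).hom a = 0 from (IsLocalRing.residue_eq_zero_iff a).mpr ha]
  haveI : IsLocallyNoetherian Z := LocallyOfFiniteType.isLocallyNoetherian (g ≫ str)
  haveI : IsNoetherianRing R := inferInstance
  have h0 : m' ≤ ⊥ := Submodule.le_of_le_smul_of_le_jacobson_bot (IsNoetherian.noetherian m')
    (IsLocalRing.maximalIdeal_le_jacobson _) hm
  exact IsLocalRing.isField_iff_maximalIdeal_eq.mpr (le_bot_iff.mp h0)

include hFb hle hFapp hπ hF hFs hg in
theorem isClosed_singleton (z : Z) : IsClosed ({z} : Set Z) := by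
  haveI : JacobsonSpace Z := LocallyOfFiniteType.jacobsonSpace (g ≫ str)
  obtain ⟨x, hzx, hx⟩ := nonempty_inter_closedPoints (X := ↥Z)
    (Z := closure ({z} : Set Z)) ⟨z, subset_closure rfl⟩ isClosed_closure.isLocallyClosed
  have hsp : z ⤳ x := specializes_iff_mem_closure.mpr hzx
  have hfield := isField_stalk f FX hFb hle hFapp π str hπ F hF hFs g hg hx
  haveI : Subsingleton (PrimeSpectrum (Z.presheaf.stalk x)) := by
    letI := hfield.toField
    infer_instance
  obtain ⟨w, hw⟩ : z ∈ Set.range (Z.fromSpecStalk x) := by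
    rw [Scheme.range_fromSpecStalk]; exact hsp
  rw [show w = IsLocalRing.closedPoint _ from Subsingleton.elim (α := PrimeSpectrum (Z.presheaf.stalk x)) _ _,
    Scheme.fromSpecStalk_closedPoint] at hw
  exact hw ▸ hx

include hFb hle hFapp hπ hF hFs hg in
theorem isReduced : IsReduced Z := by
  haveI : ∀ z : Z, _root_.IsReduced (Z.presheaf.stalk z) := fun z => by
    letI := (isField_stalk f FX hFb hle hFapp π str hπ F hF hFs g hg
      (isClosed_singleton f FX hFb hle hFapp π str hπ F hF hFs g hg z)).toField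
    infer_instance
  exact isReduced_of_isReduced_stalk Z

include hFb hle hFapp hπ hF hFs hg in
theorem finite [LocallyOfFiniteType f] [QuasiCompact f] : Finite Z := by
  obtain ⟨-, hfin⟩ := Weil.card_fixed_pointsEquiv (k := k) f FX hFb hle hFapp 1 one_ne_zero
  have hcl := isClosed_singleton f FX hFb hle hFapp π str hπ F hF hFs g hg
  refine Finite.of_injective (β := { t : Spec (CommRingCat.of k) ⟶ X //
      t ≫ f = Spec.map (CommRingCat.ofHom (algebraMap k₀ k)) ∧ t ≫ Weil.iterS FX 1 = t }) (fun z => ⟨pointOfClosedPoint (g ≫ str) z (hcl z) ≫ g ≫ π, ?_, ?_⟩) ?_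
  · rw [Category.assoc, Category.assoc, hπ.w, ← Category.assoc g, pointOfClosedPoint_comp_assoc]
  · show _ ≫ (𝟙 X ≫ FX) = _
    rw [Category.id_comp, Category.assoc, Category.assoc, ← hF, ← Category.assoc g F, hg]
  · intro z z' h
    have h1 : pointOfClosedPoint (g ≫ str) z (hcl z) ≫ g = pointOfClosedPoint (g ≫ str) z' (hcl z') ≫ g :=
      hπ.hom_ext (by simpa only [Category.assoc] using congrArg Subtype.val h)
        (by rw [Category.assoc, Category.assoc, pointOfClosedPoint_comp, pointOfClosedPoint_comp])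
    have := congrArg (fun t : Spec (CommRingCat.of k) ⟶ Z => t (IsLocalRing.closedPoint k))
      ((cancel_mono g).mp h1)
    exact (pointOfClosedPoint_apply ..).symm.trans (this.trans (pointOfClosedPoint_apply ..))

variable {S : Scheme.{u}} (p : S ⟶ Spec (CommRingCat.of k)) (G : S ⟶ S) (hG : G ≫ p = p)

theorem mono_fixScheme_fst : Mono (pullback.fst (pullback.lift (𝟙 S) G (by rw [hG, Category.id_comp]) : S ⟶ pullback p p)
    (pullback.lift (𝟙 S) (𝟙 S) rfl)) := by
  haveI : IsImmersion (pullback.lift (𝟙 S) (𝟙 S) rfl : S ⟶ pullback p p) :=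
    inferInstanceAs (IsImmersion (pullback.diagonal p))
  infer_instance

theorem locallyOfFiniteType_fixScheme [LocallyOfFiniteType p] : LocallyOfFiniteType
    (pullback.fst (pullback.lift (𝟙 S) G (by rw [hG, Category.id_comp]) : S ⟶ pullback p p)
      (pullback.lift (𝟙 S) (𝟙 S) rfl) ≫ p) := by
  haveI : IsImmersion (pullback.lift (𝟙 S) (𝟙 S) rfl : S ⟶ pullback p p) :=
    inferInstanceAs (IsImmersion (pullback.diagonal p))
  infer_instance

theorem fixScheme_fst_comp : pullback.fst (pullback.lift (𝟙 S) G (by rw [hG, Category.id_comp]) : S ⟶ pullback p p)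
    (pullback.lift (𝟙 S) (𝟙 S) rfl) ≫ G = pullback.fst (pullback.lift (𝟙 S) G (by rw [hG, Category.id_comp]))
    (pullback.lift (𝟙 S) (𝟙 S) rfl) := by
  have h := pullback.condition (f := (pullback.lift (𝟙 S) G (by rw [hG, Category.id_comp]) : S ⟶ pullback p p))
    (g := pullback.lift (𝟙 S) (𝟙 S) rfl)
  have h1 := congrArg (· ≫ pullback.fst p p) h
  have h2 := congrArg (· ≫ pullback.snd p p) h
  simp only [Category.assoc, pullback.lift_fst, pullback.lift_snd, Category.comp_id] at h1 h2
  rw [h2, ← h1]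

section

include hFb hle hFapp hπ hF hFs

theorem isReduced_fixScheme [LocallyOfFiniteType str] :
    IsReduced (FinFr.fixScheme str F hFs) := by
  unfold FinFr.fixScheme
  haveI := mono_fixScheme_fst str F hFs
  haveI := locallyOfFiniteType_fixScheme str F hFs
  exact isReduced f FX hFb hle hFapp π str hπ F hF hFs _ (fixScheme_fst_comp str F hFs)

theorem finite_fixScheme [LocallyOfFiniteType str] [LocallyOfFiniteType f] [QuasiCompact f] :
    Finite ↥(FinFr.fixScheme str F hFs) := by
  unfold FinFr.fixScheme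
  haveI := mono_fixScheme_fst str F hFs
  haveI := locallyOfFiniteType_fixScheme str F hFs
  exact finite f FX hFb hle hFapp π str hπ F hF hFs _ (fixScheme_fst_comp str F hFs)

end

end Groth.Agent.ZetaLib
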