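import Groth.Agent.ZetaLib.GeomFibre
import Mathlib.FieldTheory.Normal.Basic
import Mathlib.FieldTheory.IsAlgClosed.AlgebraicClosure

/-!
# Galois orbits in the geometric fibres
-/

universe u

noncomputable section

open AlgebraicGeometry CategoryTheory Limits

namespace Groth.Agent.ZetaLib

open Groth.Agent.Weil (structMap)

variable {k : Type u} [Field k] (K : Type u) [Field K] [Algebra k K]
variable {X : Scheme.{u}} (f : X ⟶ Spec (CommRingCat.of k))


variable (τ : (K ≃ₐ[k] K) → (pullback f (Spec.map (CommRingCat.ofHom (algebraMap k K))) ⟶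
        pullback f (Spec.map (CommRingCat.ofHom (algebraMap k K)))))
    (hτ1 : ∀ σ, τ σ ≫ (pullback.fst f (Spec.map (CommRingCat.ofHom (algebraMap k K)))) = (pullback.fst f (Spec.map (CommRingCat.ofHom (algebraMap k K)))))
    (hτ2 : ∀ σ, τ σ ≫ (pullback.snd f (Spec.map (CommRingCat.ofHom (algebraMap k K)))) = (pullback.snd f (Spec.map (CommRingCat.ofHom (algebraMap k K)))) ≫ Spec.map (CommRingCat.ofHom (σ : K →+* K)))

include hτ1 hτ2

theorem galois_inv_comp (σ : K ≃ₐ[k] K) : τ σ ≫ τ σ.symm = 𝟙 _ := by
  refine pullback.hom_ext ?_ ?_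
  · rw [Category.assoc, hτ1, hτ1, Category.id_comp]
  · rw [Category.assoc, hτ2, ← Category.assoc, hτ2, Category.assoc, ← Spec.map_comp,
      Category.id_comp]
    convert Category.comp_id ((pullback.snd f (Spec.map (CommRingCat.ofHom (algebraMap k K)))))
    rw [← Spec.map_id]
    congr 1
    ext a
    exact σ.apply_symm_apply a

variable [IsAlgClosed K] [Algebra.IsAlgebraic k K]

theorem fibre_eq_orbit (x y : ↑(pullback f (Spec.map (CommRingCat.ofHom (algebraMap k K))))) :
    ((pullback.fst f (Spec.map (CommRingCat.ofHom (algebraMap k K))))).base x = ((pullback.fst f (Spec.map (CommRingCat.ofHom (algebraMap k K))))).base y ↔ ∃ σ, (τ σ).base x = y := by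
  constructor
  swap
  · rintro ⟨σ, rfl⟩
    show (pullback.fst f (Spec.map (CommRingCat.ofHom (algebraMap k K)))) x = (pullback.fst f (Spec.map (CommRingCat.ofHom (algebraMap k K)))) (τ σ x)
    rw [← Scheme.Hom.comp_apply, hτ1]
  intro h
  obtain ⟨z, hz1, hz2⟩ := Scheme.Pullback.exists_preimage_pullback (f := (pullback.fst f (Spec.map (CommRingCat.ofHom (algebraMap k K))))) (g := (pullback.fst f (Spec.map (CommRingCat.ofHom (algebraMap k K))))) x y h
  let W := pullback ((pullback.fst f (Spec.map (CommRingCat.ofHom (algebraMap k K))))) ((pullback.fst f (Spec.map (CommRingCat.ofHom (algebraMap k K)))))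
  let Ω := AlgebraicClosure (W.residueField z)
  let ω : Spec (CommRingCat.of Ω) ⟶ W :=
    Spec.map (CommRingCat.ofHom (algebraMap (W.residueField z) Ω)) ≫ W.fromSpecResidueField z
  have hω : ω (IsLocalRing.closedPoint Ω) = z := by
    exact (Scheme.Hom.comp_apply _ _ _).trans (W.fromSpecResidueField_apply _ _)
  set a := ω ≫ pullback.fst ((pullback.fst f (Spec.map (CommRingCat.ofHom (algebraMap k K))))) ((pullback.fst f (Spec.map (CommRingCat.ofHom (algebraMap k K))))) with ha
  set b := ω ≫ pullback.snd ((pullback.fst f (Spec.map (CommRingCat.ofHom (algebraMap k K))))) ((pullback.fst f (Spec.map (CommRingCat.ofHom (algebraMap k K))))) with hb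
  have hab : a ≫ (pullback.fst f (Spec.map (CommRingCat.ofHom (algebraMap k K)))) = b ≫ (pullback.fst f (Spec.map (CommRingCat.ofHom (algebraMap k K)))) := by simp only [ha, hb, Category.assoc, pullback.condition]
  let ja : K →+* Ω := (Spec.preimage (a ≫ (pullback.snd f (Spec.map (CommRingCat.ofHom (algebraMap k K)))))).hom
  let jb : K →+* Ω := (Spec.preimage (b ≫ (pullback.snd f (Spec.map (CommRingCat.ofHom (algebraMap k K)))))).hom
  have hja : Spec.map (CommRingCat.ofHom ja) = a ≫ (pullback.snd f (Spec.map (CommRingCat.ofHom (algebraMap k K)))) := Spec.map_preimage _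
  have hjb : Spec.map (CommRingCat.ofHom jb) = b ≫ (pullback.snd f (Spec.map (CommRingCat.ofHom (algebraMap k K)))) := Spec.map_preimage _
  have hbase : jb.comp (algebraMap k K) = ja.comp (algebraMap k K) := by
    have e : Spec.map (CommRingCat.ofHom (jb.comp (algebraMap k K))) =
        Spec.map (CommRingCat.ofHom (ja.comp (algebraMap k K))) := by
      rw [CommRingCat.ofHom_comp, CommRingCat.ofHom_comp, Spec.map_comp, Spec.map_comp, hja, hjb,
        Category.assoc, Category.assoc, ← pullback.condition, ← Category.assoc, ← Category.assoc]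
      refine (congrArg (· ≫ f) hab.symm).trans ?_
      simp only [Category.assoc, pullback.condition]
    exact congrArg CommRingCat.Hom.hom (Spec.map_injective e)
  letI : Algebra K Ω := ja.toAlgebra
  letI : Algebra k Ω := (ja.comp (algebraMap k K)).toAlgebra
  haveI : IsScalarTower k K Ω := IsScalarTower.of_algebraMap_eq' rfl
  haveI : IsAlgClosure k K := ⟨inferInstance, inferInstance⟩
  haveI : Normal k K := IsAlgClosure.normal k K
  let φ : K →ₐ[k] Ω := { jb with commutes' := fun r => RingHom.congr_fun hbase r }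
  let σ := Normal.algHomEquivAut k Ω K φ
  have hσ : ja.comp (σ : K →+* K) = jb := RingHom.ext fun r =>
    AlgHom.congr_fun ((Normal.algHomEquivAut k Ω K).symm_apply_apply φ) r
  refine ⟨σ, ?_⟩
  have he : a ≫ τ σ = b := by
    refine pullback.hom_ext ?_ ?_
    · rw [Category.assoc, hτ1, hab]
    · rw [Category.assoc, hτ2, ← Category.assoc, ← hja, ← hjb, ← Spec.map_comp, ← hσ]
      rfl
  have hax : a (IsLocalRing.closedPoint Ω) = x := by rw [ha, Scheme.Hom.comp_apply, hω, hz1]
  have hby : b (IsLocalRing.closedPoint Ω) = y := by rw [hb, Scheme.Hom.comp_apply, hω, hz2]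
  rw [← hax, ← hby]
  show τ σ (a (IsLocalRing.closedPoint Ω)) = b (IsLocalRing.closedPoint Ω)
  rw [← Scheme.Hom.comp_apply, he]

theorem isClosed_of_map_isClosed [LocallyOfFiniteType f]
    {x : ↑(pullback f (Spec.map (CommRingCat.ofHom (algebraMap k K))))}
    (hx : IsClosed ({((pullback.fst f (Spec.map (CommRingCat.ofHom (algebraMap k K))))).base x} : Set X)) : IsClosed ({x} : Set _) := by
  haveI : JacobsonSpace ↥(pullback f (Spec.map (CommRingCat.ofHom (algebraMap k K)))) :=
    LocallyOfFiniteType.jacobsonSpace ((pullback.snd f (Spec.map (CommRingCat.ofHom (algebraMap k K)))))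
  have hC : IsClosed (((pullback.fst f (Spec.map (CommRingCat.ofHom (algebraMap k K))))) ⁻¹' {(pullback.fst f (Spec.map (CommRingCat.ofHom (algebraMap k K)))) x}) := hx.preimage ((pullback.fst f (Spec.map (CommRingCat.ofHom (algebraMap k K))))).continuous
  have hne : (((pullback.fst f (Spec.map (CommRingCat.ofHom (algebraMap k K))))) ⁻¹' {(pullback.fst f (Spec.map (CommRingCat.ofHom (algebraMap k K)))) x} ∩ closedPoints _).Nonempty := by
    refine closure_nonempty_iff.mp ?_
    rw [JacobsonSpace.closure_inter_closedPoints hC]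
    exact ⟨x, rfl⟩
  obtain ⟨w, hw, hwc⟩ := hne
  obtain ⟨σ, hσ⟩ := (fibre_eq_orbit K f τ hτ1 hτ2 w x).1 hw
  have hw' : (τ σ.symm) x = w := by
    rw [← hσ]
    show τ σ.symm (τ σ w) = w
    rw [← Scheme.Hom.comp_apply, galois_inv_comp K f τ hτ1 hτ2]; rfl
  have : ({x} : Set _) = (τ σ.symm) ⁻¹' {w} := by
    refine Set.Subset.antisymm (by simpa using hw') fun y hy => ?_
    have hy' : τ σ.symm y = w := hy
    have h2 : τ σ (τ σ.symm y) = y := by
      rw [← Scheme.Hom.comp_apply]
      have := galois_inv_comp K f τ hτ1 hτ2 σ.symm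
      rw [AlgEquiv.symm_symm] at this
      rw [this]; rfl
    rw [Set.mem_singleton_iff, ← h2, hy', ← hσ]
  rw [this]
  exact (mem_closedPoints_iff.mp hwc).preimage (τ σ.symm).continuous

omit hτ1 hτ2

theorem isClosed_map {x : ↑(pullback f (Spec.map (CommRingCat.ofHom (algebraMap k K))))}
    (hx : IsClosed ({x} : Set _)) : IsClosed ({((pullback.fst f (Spec.map (CommRingCat.ofHom (algebraMap k K))))).base x} : Set X) := by
  haveI : IsIntegralHom (Spec.map (CommRingCat.ofHom (algebraMap k K))) := by
    rw [IsIntegralHom.SpecMap_iff, CommRingCat.hom_ofHom]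
    exact algebraMap_isIntegral_iff.mpr (Algebra.IsAlgebraic.isIntegral)
  rw [← Set.image_singleton]
  exact ((pullback.fst f (Spec.map (CommRingCat.ofHom (algebraMap k K))))).isClosedMap _ hx

theorem surjective_map (x : X) : ∃ y, ((pullback.fst f (Spec.map (CommRingCat.ofHom (algebraMap k K))))).base y = x := by
  haveI : Surjective (Spec.map (CommRingCat.ofHom (algebraMap k K))) := ⟨fun p =>
    ⟨IsLocalRing.closedPoint K, Subsingleton.elim (α := PrimeSpectrum k) _ _⟩⟩
  exact ((pullback.fst f (Spec.map (CommRingCat.ofHom (algebraMap k K))))).surjective x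

include hτ1 hτ2 in
theorem card_fibre_geom [PerfectField k] [LocallyOfFiniteType f] {x : X}
    (hx : IsClosed ({x} : Set X)) :
    (((pullback.fst f (Spec.map (CommRingCat.ofHom (algebraMap k K))))).base ⁻¹' {x}).Finite ∧ (((pullback.fst f (Spec.map (CommRingCat.ofHom (algebraMap k K))))).base ⁻¹' {x}).ncard = EGA4loc.residueDegree f x := by
  letI := (structMap f x).toAlgebra
  haveI : Module.Finite k (X.residueField x) := (isClosed_iff_finite f x).mp hx
  let g : (X.residueField x →ₐ[k] K) →
      (Spec (CommRingCat.of K) ⟶ pullback f (Spec.map (CommRingCat.ofHom (algebraMap k K)))) :=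
    fun φ => pullback.lift (Spec.map (CommRingCat.ofHom φ.toRingHom) ≫ X.fromSpecResidueField x)
      (𝟙 _) (by
        rw [Category.assoc, fromSpecResidueField_comp, Category.id_comp, ← Spec.map_comp]
        exact congrArg (fun φ => Spec.map (CommRingCat.ofHom φ)) φ.comp_algebraMap)
  let Φ := fun φ => g φ (IsLocalRing.closedPoint K)
  have hrange : Set.range Φ = ((pullback.fst f (Spec.map (CommRingCat.ofHom (algebraMap k K))))).base ⁻¹' {x} := by
    refine Set.Subset.antisymm ?_ fun y hy => ?_
    · rintro _ ⟨φ, rfl⟩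
      show (pullback.fst f (Spec.map (CommRingCat.ofHom (algebraMap k K)))) (g φ (IsLocalRing.closedPoint K)) = x
      rw [← Scheme.Hom.comp_apply, pullback.lift_fst]
      exact (Scheme.Hom.comp_apply _ _ _).trans (X.fromSpecResidueField_apply _ _)
    · have hy' : (pullback.fst f (Spec.map (CommRingCat.ofHom (algebraMap k K)))) y = x := hy
      have hyc : IsClosed ({y} : Set _) :=
        isClosed_of_map_isClosed K f τ hτ1 hτ2 (x := y) (hy'.symm ▸ hx)
      obtain ⟨s, hs, hspt⟩ := exists_section ((pullback.snd f (Spec.map (CommRingCat.ofHom (algebraMap k K))))) hyc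
      obtain ⟨φ, hφ, e⟩ := point_eq K f (s ≫ (pullback.fst f (Spec.map (CommRingCat.ofHom (algebraMap k K)))))
        (by rw [Category.assoc, pullback.condition, ← Category.assoc, hs, Category.id_comp])
        (x := x) (by rw [Scheme.Hom.comp_apply, hspt, hy'])
      refine ⟨{ φ with commutes' := fun r => RingHom.congr_fun hφ r }, ?_⟩
      have : g { φ with commutes' := fun r => RingHom.congr_fun hφ r } = s :=
        pullback.hom_ext ((pullback.lift_fst _ _ _).trans e.symm)
          ((pullback.lift_snd _ _ _).trans hs.symm)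
      show g _ _ = y
      rw [this, hspt]
  have hinj : Function.Injective Φ := fun φ ψ h => by
    have key : g φ = g ψ := by
      obtain ⟨φ', hφ', e⟩ := point_eq K ((pullback.snd f (Spec.map (CommRingCat.ofHom (algebraMap k K))))) (g φ) ((pullback.lift_snd _ _ _).trans
        (by rw [Algebra.algebraMap_self, CommRingCat.ofHom_id, Spec.map_id])) (x := Φ φ) rfl
      obtain ⟨ψ', hψ', e'⟩ := point_eq K ((pullback.snd f (Spec.map (CommRingCat.ofHom (algebraMap k K))))) (g ψ) ((pullback.lift_snd _ _ _).trans
        (by rw [Algebra.algebraMap_self, CommRingCat.ofHom_id, Spec.map_id])) (x := Φ φ) h.symm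
      suffices φ' = ψ' by rw [e, e', this]
      letI := (structMap ((pullback.snd f (Spec.map (CommRingCat.ofHom (algebraMap k K))))) (Φ φ)).toAlgebra
      haveI : Module.Finite K ((pullback f (Spec.map (CommRingCat.ofHom (algebraMap k K)))).residueField (Φ φ)) := by
        refine (isClosed_iff_finite ((pullback.snd f (Spec.map (CommRingCat.ofHom (algebraMap k K))))) _).mp (isClosed_of_map_isClosed K f τ hτ1 hτ2 ?_)
        have : Φ φ ∈ ((pullback.fst f (Spec.map (CommRingCat.ofHom (algebraMap k K))))).base ⁻¹' {x} := hrange ▸ ⟨φ, rfl⟩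
        rw [Set.mem_preimage, Set.mem_singleton_iff] at this
        rw [this]; exact hx
      refine RingHom.ext fun a => ?_
      obtain ⟨c, rfl⟩ := IsAlgClosed.algebraMap_bijective_of_isIntegral (k := K)
        (K := (pullback f (Spec.map (CommRingCat.ofHom (algebraMap k K)))).residueField (Φ φ)) |>.2 a
      exact (RingHom.congr_fun hφ' c).trans (RingHom.congr_fun hψ' c).symm
    have h1 := congrArg (· ≫ (pullback.fst f (Spec.map (CommRingCat.ofHom (algebraMap k K))))) key
    simp only [g, pullback.lift_fst] at h1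
    have h2 : φ.toRingHom = ψ.toRingHom :=
      congrArg CommRingCat.Hom.hom (Spec.map_injective ((cancel_mono (X.fromSpecResidueField x)).mp h1))
    exact AlgHom.ext fun a => RingHom.congr_fun h2 a
  haveI : Algebra.IsSeparable k (X.residueField x) := Algebra.IsAlgebraic.isSeparable_of_perfectField
  haveI : Finite (X.residueField x →ₐ[k] K) := inferInstance
  refine ⟨hrange ▸ Set.finite_range Φ, ?_⟩
  rw [← hrange, ← Set.image_univ, Set.ncard_image_of_injective _ hinj, Set.ncard_univ,
    Nat.card_eq_fintype_card, AlgHom.card, residueDegree_eq_finrank]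

include hτ1 hτ2 in
theorem bijOn_effective_cycles [PerfectField k] [LocallyOfFiniteType f] (n : ℕ) :
    Set.BijOn
      (fun c : X → ℕ => c ∘ ((pullback.fst f (Spec.map (CommRingCat.ofHom (algebraMap k K))))).base)
      {c : X → ℕ | (Function.support c).Finite ∧ (∀ x, c x ≠ 0 → IsClosed ({x} : Set X)) ∧
        ∑ᶠ x, c x * EGA4loc.residueDegree f x = n}
      {d : ↑(pullback f (Spec.map (CommRingCat.ofHom (algebraMap k K)))) → ℕ |
        (Function.support d).Finite ∧ (∀ y, d y ≠ 0 → IsClosed ({y} : Set _)) ∧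
        ∑ᶠ y, d y = n ∧ ∀ σ y, d ((τ σ).base y) = d y} := by
  classical
  have hfin : ∀ c : X → ℕ, (Function.support c).Finite → (∀ x, c x ≠ 0 → IsClosed ({x} : Set X)) →
      (Function.support (c ∘ ((pullback.fst f (Spec.map (CommRingCat.ofHom (algebraMap k K))))).base)).Finite := fun c h1 h2 => by
    refine (h1.biUnion fun x hx => (card_fibre_geom K f τ hτ1 hτ2 (h2 x hx)).1).subset fun y hy => ?_
    exact Set.mem_biUnion (x := ((pullback.fst f (Spec.map (CommRingCat.ofHom (algebraMap k K))))).base y) hy rfl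
  have hsum : ∀ c : X → ℕ, (Function.support c).Finite → (∀ x, c x ≠ 0 → IsClosed ({x} : Set X)) →
      ∑ᶠ y, c (((pullback.fst f (Spec.map (CommRingCat.ofHom (algebraMap k K))))).base y) = ∑ᶠ x, c x * EGA4loc.residueDegree f x := fun c h1 h2 => by
    have e2 : ∑ᶠ x, c x * EGA4loc.residueDegree f x =
        ∑ x ∈ h1.toFinset, c x * EGA4loc.residueDegree f x :=
      finsum_eq_sum_of_support_subset _ fun x hx => by
        simp only [Set.Finite.coe_toFinset, Function.mem_support] at hx ⊢
        exact left_ne_zero_of_mul hx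
    have hS := hfin c h1 h2
    rw [e2, finsum_eq_sum_of_support_subset (fun y => c (((pullback.fst f (Spec.map (CommRingCat.ofHom (algebraMap k K))))).base y)) (s := hS.toFinset)
      (by simp [Function.comp_def]), ← Finset.sum_fiberwise_of_maps_to (t := h1.toFinset)
      (g := ((pullback.fst f (Spec.map (CommRingCat.ofHom (algebraMap k K))))).base) (fun y hy => by simpa using (Set.Finite.mem_toFinset hS).1 hy)]
    refine Finset.sum_congr rfl fun x hx => ?_
    have hx' : c x ≠ 0 := (Set.Finite.mem_toFinset h1).1 hx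
    obtain ⟨hf', hcard⟩ := card_fibre_geom K f τ hτ1 hτ2 (h2 x hx')
    rw [← hcard, Set.ncard_eq_toFinset_card _ hf']
    rw [show hS.toFinset.filter (fun y => ((pullback.fst f (Spec.map (CommRingCat.ofHom (algebraMap k K))))).base y = x) = hf'.toFinset from Finset.ext fun y => by
      simp only [Finset.mem_filter, Set.Finite.mem_toFinset, Function.mem_support, Function.comp_apply,
        Set.mem_preimage, Set.mem_singleton_iff]
      exact ⟨fun h => h.2, fun h => ⟨by rw [h]; exact hx', h⟩⟩]
    rw [Finset.sum_congr rfl (g := fun _ => c x) (fun y hy => by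
      rw [show ((pullback.fst f (Spec.map (CommRingCat.ofHom (algebraMap k K))))).base y = x from (Set.Finite.mem_toFinset hf').1 hy]), Finset.sum_const,
      smul_eq_mul, mul_comm]
  refine ⟨?_, ?_, ?_⟩
  · rintro c ⟨h1, h2, h3⟩
    refine ⟨hfin c h1 h2, fun y hy => isClosed_of_map_isClosed K f τ hτ1 hτ2 (h2 _ hy), ?_, ?_⟩
    · exact (hsum c h1 h2).trans h3
    · intro σ y
      exact congrArg c ((fibre_eq_orbit K f τ hτ1 hτ2 _ _).2 ⟨σ, rfl⟩).symm
  · intro c _ c' _ h
    funext x
    obtain ⟨y, rfl⟩ := surjective_map K f x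
    exact congrFun h y
  · rintro d ⟨h1, h2, h3, h4⟩
    choose s hs using surjective_map K f
    have hd : (fun x => d (s x)) ∘ ((pullback.fst f (Spec.map (CommRingCat.ofHom (algebraMap k K))))).base = d := funext fun y => by
      obtain ⟨σ, hσ⟩ := (fibre_eq_orbit K f τ hτ1 hτ2 y (s (((pullback.fst f (Spec.map (CommRingCat.ofHom (algebraMap k K))))).base y))).1 (hs _).symm
      show d (s _) = d y
      rw [← hσ, h4]
    have hf1 : (Function.support fun x => d (s x)).Finite :=
      (h1.image ((pullback.fst f (Spec.map (CommRingCat.ofHom (algebraMap k K))))).base).subset fun x hx => ⟨s x, hx, hs x⟩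
    have hf2 : ∀ x, d (s x) ≠ 0 → IsClosed ({x} : Set X) := fun x hx => by
      rw [← hs x]; exact isClosed_map K f (h2 _ hx)
    refine ⟨fun x => d (s x), ⟨hf1, hf2, ?_⟩, hd⟩
    rw [← hsum _ hf1 hf2, ← h3]
    exact finsum_congr fun y => congrFun hd y

end Groth.Agent.ZetaLib
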