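import Groth.Agent.ZetaLib.Points
import Groth.Agent.Weil.Fixed
import Groth.Prelude.Def_FinFr
import Mathlib.FieldTheory.Normal.Defs
import Mathlib.FieldTheory.Finite.Basic
import Mathlib.AlgebraicGeometry.Morphisms.Integral
import Mathlib.Topology.JacobsonSpace

/-!
# Frobenius on geometric fibres
-/

universe u

noncomputable section

open AlgebraicGeometry CategoryTheory Limits

namespace Groth.Agent.ZetaLib

open Groth.Agent.Weil (structMap)

variable {k : Type u} [Field k] {X : Scheme.{u}}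

theorem exists_section {K : Type u} [Field K] [IsAlgClosed K] {E : Scheme.{u}} (str : E ⟶ Spec (CommRingCat.of K))
    [LocallyOfFiniteType str] {z : E} (hz : IsClosed ({z} : Set E)) :
    ∃ g : Spec (CommRingCat.of K) ⟶ E, g ≫ str = 𝟙 _ ∧ g (IsLocalRing.closedPoint K) = z := by
  letI := (structMap str z).toAlgebra
  haveI : Module.Finite K (E.residueField z) := (isClosed_iff_finite str z).mp hz
  let φ : E.residueField z →ₐ[K] K := IsAlgClosed.lift
  refine ⟨((pointsEquiv K str).symm ⟨z, φ.toRingHom, φ.comp_algebraMap⟩).1, ?_, ?_⟩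
  · have := ((pointsEquiv K str).symm ⟨z, φ.toRingHom, φ.comp_algebraMap⟩).2
    refine this.trans ?_
    rw [Algebra.algebraMap_self, CommRingCat.ofHom_id, Spec.map_id]
  · show (Spec.map (CommRingCat.ofHom φ.toRingHom) ≫ E.fromSpecResidueField z) (IsLocalRing.closedPoint K) = z
    exact (Scheme.Hom.comp_apply _ _ _).trans (E.fromSpecResidueField_apply _ _)

theorem point_eq (K : Type u) [Field K] [Algebra k K] (f : X ⟶ Spec (CommRingCat.of k))
    (h : Spec (CommRingCat.of K) ⟶ X) (hh : h ≫ f = Spec.map (CommRingCat.ofHom (algebraMap k K)))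
    {x : X} (hx : h (IsLocalRing.closedPoint K) = x) :
    ∃ φ : X.residueField x →+* K, φ.comp (structMap f x) = algebraMap k K ∧
      h = Spec.map (CommRingCat.ofHom φ) ≫ X.fromSpecResidueField x := by
  obtain ⟨⟨y, φ, hφ⟩, hyp⟩ := (pointsEquiv K f).symm.surjective ⟨h, hh⟩
  have hy : h = Spec.map (CommRingCat.ofHom φ) ≫ X.fromSpecResidueField y := (congrArg Subtype.val hyp).symm
  obtain rfl : x = y := by
    rw [← hx, hy]
    exact (Scheme.Hom.comp_apply _ _ _).trans (X.fromSpecResidueField_apply _ _)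
  exact ⟨φ, hφ, hy⟩

theorem exists_pow_conj [Finite k] {κ K : Type u} [Field κ] [Field K] [Algebra k κ] [Module.Finite k κ]
    [Algebra k K] (φ ψ : κ →ₐ[k] K) : ∃ i : ℕ, ∀ a, ψ a = φ a ^ Nat.card k ^ i := by
  classical
  letI := Fintype.ofFinite k
  haveI : Finite κ := Module.finite_of_finite k
  letI := φ.toRingHom.toAlgebra
  haveI : IsScalarTower k κ K := IsScalarTower.of_algebraMap_eq' φ.comp_algebraMap.symm
  let σ := (Normal.algHomEquivAut k K κ) ψ
  obtain ⟨i, hi⟩ := (FiniteField.bijective_frobeniusAlgEquivOfAlgebraic_pow k κ).2 σ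
  refine ⟨i, fun a => ?_⟩
  have hσ : φ (σ a) = ψ a := by
    have := AlgHom.congr_fun ((Normal.algHomEquivAut k K κ).symm_apply_apply ψ) a
    exact this
  rw [← hσ, ← map_pow, ← hi, Nat.card_eq_fintype_card]
  congr 1
  have hn : ∀ n : ℕ, (FiniteField.frobeniusAlgEquivOfAlgebraic k κ ^ n) a = a ^ Fintype.card k ^ n := by
    intro n
    induction n with
    | zero => simp
    | succ n ih =>
      rw [pow_succ', AlgEquiv.mul_apply, ih, FiniteField.coe_frobeniusAlgEquivOfAlgebraic]; simp only [← pow_mul, ← pow_succ]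
  exact hn _

variable [Finite k] (K : Type u) [Field K] [Algebra k K] [IsAlgClosed K]
  (f : X ⟶ Spec (CommRingCat.of k)) [LocallyOfFiniteType f]
  (FX : X ⟶ X) (hFb : FX.base = 𝟙 _) (hle : ∀ U : X.Opens, U ≤ FX ⁻¹ᵁ U)
  (hFapp : ∀ (U : X.Opens) (s : Γ(X, U)), (FX.appLE U U (hle U)).hom s = s ^ Nat.card k)
  (F : FinFr.ext K f ⟶ FinFr.ext K f)
  (hF1 : F ≫ FinFr.extπ K f = FinFr.extπ K f ≫ FX) (hF2 : F ≫ FinFr.extStr K f = FinFr.extStr K f)

include hFapp hF1 hF2 hFb

theorem exists_iterate_apply [Algebra.IsIntegral k K] {z w : FinFr.ext K f} (hz : IsClosed ({z} : Set (FinFr.ext K f)))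
    (hw : IsClosed ({w} : Set (FinFr.ext K f))) (h : FinFr.extπ K f z = FinFr.extπ K f w) :
    ∃ i : ℕ, F.base^[i] w = z := by
  haveI : IsIntegralHom (FinFr.specι k K) := by
    rw [IsIntegralHom.SpecMap_iff, CommRingCat.hom_ofHom]
    exact algebraMap_isIntegral_iff.mpr ‹_›
  obtain ⟨gz, hgz, hzpt⟩ := exists_section (FinFr.extStr K f) hz
  obtain ⟨gw, hgw, hwpt⟩ := exists_section (FinFr.extStr K f) hw
  set x := FinFr.extπ K f w
  have hx : IsClosed ({x} : Set X) := by
    rw [← Set.image_singleton]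
    exact (FinFr.extπ K f).isClosedMap _ hw
  have hover : ∀ g : Spec (CommRingCat.of K) ⟶ FinFr.ext K f, g ≫ FinFr.extStr K f = 𝟙 _ →
      (g ≫ FinFr.extπ K f) ≫ f = Spec.map (CommRingCat.ofHom (algebraMap k K)) := fun g hg => by
    rw [Category.assoc, pullback.condition, ← Category.assoc, hg, Category.id_comp]
  obtain ⟨φz, hφz, ez⟩ := point_eq K f _ (hover gz hgz) (x := x) (by rw [Scheme.Hom.comp_apply, hzpt]; exact h)
  obtain ⟨φw, hφw, ew⟩ := point_eq K f _ (hover gw hgw) (x := x) (by rw [Scheme.Hom.comp_apply, hwpt])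
  letI := (structMap f x).toAlgebra
  haveI : Module.Finite k (X.residueField x) := (isClosed_iff_finite f x).mp hx
  obtain ⟨i, hi⟩ := exists_pow_conj (k := k) (κ := X.residueField x) (K := K)
    { φw with commutes' := fun r => RingHom.congr_fun hφw r } { φz with commutes' := fun r => RingHom.congr_fun hφz r }
  refine ⟨i, ?_⟩
  -- a ring endomorphism `a ↦ a ^ q`
  obtain ⟨p, hp⟩ := CharP.exists k
  haveI : Fact p.Prime := ⟨CharP.char_is_prime k p⟩
  haveI : CharP K p := charP_of_injective_algebraMap (algebraMap k K).injective p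
  letI := Fintype.ofFinite k
  obtain ⟨e, -, hq⟩ := FiniteField.card k p
  rw [← Nat.card_eq_fintype_card] at hq
  let σ₁ : K →+* K := iterateFrobenius K p e
  let σ : K →+* K := iterateFrobenius K p ((e : ℕ) * i)
  have hσ₁ : ∀ a, σ₁ a = a ^ Nat.card k := fun a => by rw [hq]; exact iterateFrobenius_def ..
  have hσ : ∀ a, σ a = a ^ Nat.card k ^ i := fun a => by rw [hq, ← pow_mul]; exact iterateFrobenius_def ..
  let G : ℕ → (X ⟶ X) := fun n => Nat.rec (𝟙 X) (fun _ g => g ≫ FX) n
  let H : ℕ → (Spec (CommRingCat.of K) ⟶ FinFr.ext K f) := fun n => Nat.rec gw (fun _ g => g ≫ F) n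
  have hH1 : ∀ n, H n ≫ FinFr.extπ K f = (gw ≫ FinFr.extπ K f) ≫ G n := by
    intro n
    induction n with
    | zero => exact (Category.comp_id _).symm
    | succ n ih =>
      show (H n ≫ F) ≫ FinFr.extπ K f = (gw ≫ FinFr.extπ K f) ≫ G n ≫ FX
      rw [Category.assoc, hF1, ← Category.assoc, ih, Category.assoc]
  have hH2 : ∀ n, H n ≫ FinFr.extStr K f = 𝟙 _ := by
    intro n
    induction n with
    | zero => exact hgw
    | succ n ih =>
      show (H n ≫ F) ≫ FinFr.extStr K f = 𝟙 _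
      rw [Category.assoc, hF2, ih]
  have hH3 : ∀ n, H n (IsLocalRing.closedPoint K) = F.base^[n] w := by
    intro n
    induction n with
    | zero => exact hwpt
    | succ n ih =>
      show (H n ≫ F) (IsLocalRing.closedPoint K) = _
      rw [Function.iterate_succ_apply', Scheme.Hom.comp_apply, ih]
  have hg : H i = gz := by
    refine pullback.hom_ext ?_ ((hH2 i).trans hgz.symm)
    have hpow := Weil.powEndo_pow FX (Nat.card k) hFb hle hFapp (A := CommRingCat.of K) G rfl (fun _ => rfl) i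
      σ hσ σ₁ hσ₁ (gw ≫ FinFr.extπ K f)
    show H i ≫ FinFr.extπ K f = gz ≫ FinFr.extπ K f
    rw [hH1, hpow, ew, ez, ← Category.assoc, ← Spec.map_comp]
    congr 2
    refine CommRingCat.hom_ext (RingHom.ext fun a => ?_)
    show σ (φw a) = φz a
    rw [hσ]
    exact (hi a).symm
  rw [← hH3 i, hg, hzpt]

theorem exists_preimage_iff [Algebra.IsIntegral k K] (W : Set (FinFr.ext K f)) (hW : IsClosed W) :
    (∃ Y : Set X, IsClosed Y ∧ (FinFr.extπ K f).base ⁻¹' Y = W) ↔ F.base '' W ⊆ W := by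
  haveI : IsIntegralHom (FinFr.specι k K) := by
    rw [IsIntegralHom.SpecMap_iff, CommRingCat.hom_ofHom]
    exact algebraMap_isIntegral_iff.mpr ‹_›
  have hπF : ∀ z, FinFr.extπ K f (F z) = FinFr.extπ K f z := fun z => by
    rw [← Scheme.Hom.comp_apply, hF1, Scheme.Hom.comp_apply]
    show FX.base.hom _ = _
    rw [hFb]; rfl
  constructor
  · rintro ⟨Y, -, rfl⟩ _ ⟨z, hz, rfl⟩
    show FinFr.extπ K f (F z) ∈ Y
    rw [hπF]; exact hz
  intro hFW
  refine ⟨FinFr.extπ K f '' W, (FinFr.extπ K f).isClosedMap _ hW, Set.Subset.antisymm ?_ (Set.subset_preimage_image _ _)⟩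
  haveI : JacobsonSpace (FinFr.ext K f) := LocallyOfFiniteType.jacobsonSpace (FinFr.extStr K f)
  have hC : IsClosed ((FinFr.extπ K f).base ⁻¹' (FinFr.extπ K f '' W)) :=
    ((FinFr.extπ K f).isClosedMap _ hW).preimage (FinFr.extπ K f).continuous
  rw [← JacobsonSpace.closure_inter_closedPoints hC]
  refine closure_minimal ?_ hW
  rintro z ⟨⟨w₀, hw₀, hw⟩, hz⟩
  have hz' : IsClosed ({z} : Set _) := mem_closedPoints_iff.mp hz
  have hcl : IsClosed ({FinFr.extπ K f z} : Set X) := by
    rw [← Set.image_singleton]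
    exact (FinFr.extπ K f).isClosedMap _ hz'
  have hC' : IsClosed (W ∩ (FinFr.extπ K f) ⁻¹' {FinFr.extπ K f z}) :=
    hW.inter (hcl.preimage (FinFr.extπ K f).continuous)
  have hne : ((W ∩ (FinFr.extπ K f) ⁻¹' {FinFr.extπ K f z}) ∩ closedPoints _).Nonempty := by
    refine closure_nonempty_iff.mp ?_
    rw [JacobsonSpace.closure_inter_closedPoints hC']
    exact ⟨w₀, hw₀, hw⟩
  obtain ⟨w, ⟨hwW, hwπ⟩, hwc⟩ := hne
  obtain ⟨i, rfl⟩ := exists_iterate_apply K f FX hFb hle hFapp F hF1 hF2 hz' (mem_closedPoints_iff.mp hwc) hwπ.symm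
  exact (Set.mapsTo_iff_image_subset.mpr hFW).iterate i hwW

end Groth.Agent.ZetaLib
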