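import Groth.Agent.ZetaLib.Points
import Groth.Agent.PowExp.Basic
import Mathlib.AlgebraicGeometry.AffineSpace
import Mathlib.FieldTheory.Finite.Extension
import Mathlib.RingTheory.PowerSeries.Substitution

/-!
# Zeta functions from point counts; the affine line
-/

universe u

noncomputable section

open AlgebraicGeometry CategoryTheory PowerSeries

namespace Groth.Agent.ZetaLib

theorem exists_extension (k : Type u) [Field k] [Finite k] {m : ℕ} (hm : m ≠ 0) :
    ∃ (k' : Type u) (_ : Field k') (_ : Algebra k k') (_ : Finite k'), Module.finrank k k' = m := by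
  obtain ⟨p, _⟩ := CharP.exists k
  haveI : Fact p.Prime := ⟨CharP.char_is_prime k p⟩
  haveI : NeZero m := ⟨hm⟩
  haveI : Finite (FiniteField.Extension k p m) := Module.finite_of_finite k
  exact ⟨ULift.{u} (FiniteField.Extension k p m), inferInstance, inferInstance, inferInstance,
    (ULift.algEquiv.toLinearEquiv.finrank_eq).trans (FiniteField.finrank_extension k p m)⟩

variable {k : Type u} [Field k] {X Y : Scheme.{u}}

theorem nPts_zero (f : X ⟶ Spec (CommRingCat.of k)) : Zeta.nPts f 0 = 0 := by simp [Zeta.nPts]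

theorem expS_rescale {K : Type*} [Field K] [CharZero K] (a : K) {L : PowerSeries K} (hL : constantCoeff L = 0) :
    rescale a (PowExp.expS L) = PowExp.expS (rescale a L) := by
  rw [rescale_eq_subst, rescale_eq_subst, PowExp.expS, PowExp.expS,
    subst_comp_subst_apply (HasSubst.of_constantCoeff_zero' hL) (HasSubst.smul_X' a)]

theorem zetaFun_eq_rescale (f : X ⟶ Spec (CommRingCat.of k)) (g : Y ⟶ Spec (CommRingCat.of k)) (a : ℕ)
    (h : ∀ m ≠ 0, Zeta.nPts g m = a ^ m * Zeta.nPts f m) :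
    Zeta.zetaFun g = rescale (a : ℚ) (Zeta.zetaFun f) := by
  have hL : Zeta.logZeta g = rescale (a : ℚ) (Zeta.logZeta f) := by
    ext m
    rcases eq_or_ne m 0 with rfl | hm
    · simp [Zeta.logZeta, coeff_rescale, nPts_zero]
    · simp [Zeta.logZeta, coeff_rescale, h m hm, mul_div_assoc]
  show PowExp.expS _ = rescale _ (PowExp.expS _)
  rw [hL, expS_rescale]
  simp [Zeta.logZeta, ← coeff_zero_eq_constantCoeff_apply, nPts_zero]

variable (k' : Type u) [Field k'] [Algebra k k']

/-- Points of the affine line. -/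
theorem pointCount_affineLine (f : X ⟶ Spec (CommRingCat.of k)) :
    SgaExt.pointCount ((𝔸(PUnit.{u + 1}; X) ↘ X) ≫ f) k' = SgaExt.pointCount f k' * Nat.card k' := by
  rw [SgaExt.pointCount, SgaExt.pointCount, ← Nat.card_prod]
  set s := Spec.map (CommRingCat.ofHom (algebraMap k k'))
  let e₀ : ∀ h : Spec (CommRingCat.of k') ⟶ X,
      { g : Spec (CommRingCat.of k') ⟶ 𝔸(PUnit.{u + 1}; X) // g ≫ (𝔸(PUnit.{u + 1}; X) ↘ X) = h } ≃ k' := fun h =>
    letI : (Spec (CommRingCat.of k')).Over X := ⟨h⟩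
    (Equiv.subtypeEquivRight fun g => ⟨fun e => ⟨e⟩, fun e => e.1⟩).trans
      (((AffineSpace.homOverEquiv (n := PUnit.{u + 1}) (S := X) (X := Spec (CommRingCat.of k'))).trans
        (Equiv.funUnique _ _)).trans (Scheme.ΓSpecIso (CommRingCat.of k')).commRingCatIsoToRingEquiv.toEquiv)
  refine Nat.card_congr
    (({ toFun := fun g => ⟨⟨g.1 ≫ (𝔸(PUnit.{u + 1}; X) ↘ X), by rw [Category.assoc]; exact g.2⟩, ⟨g.1, rfl⟩⟩
        invFun := fun p => ⟨p.2.1, by rw [← Category.assoc, p.2.2]; exact p.1.2⟩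
        left_inv := fun g => rfl
        right_inv := fun p => by obtain ⟨⟨h, hh⟩, ⟨g, hg⟩⟩ := p; cases hg; rfl } :
      { g : Spec (CommRingCat.of k') ⟶ 𝔸(PUnit.{u + 1}; X) // g ≫ (𝔸(PUnit.{u + 1}; X) ↘ X) ≫ f = s } ≃
        Σ h : { h : Spec (CommRingCat.of k') ⟶ X // h ≫ f = s },
          { g : Spec (CommRingCat.of k') ⟶ 𝔸(PUnit.{u + 1}; X) // g ≫ (𝔸(PUnit.{u + 1}; X) ↘ X) = h.1 }).trans
      ((Equiv.sigmaCongrRight fun h : { h : Spec (CommRingCat.of k') ⟶ X // h ≫ f = s } => e₀ h.1).trans (Equiv.sigmaEquivProd _ _)))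

end Groth.Agent.ZetaLib
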