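import Groth.Agent.VarDim.Algebra
import Mathlib.RingTheory.Jacobson.Ring
import Mathlib.RingTheory.Int.Basic
import Mathlib.RingTheory.Localization.FractionRing
import Mathlib.Algebra.CharP.Algebra
import Mathlib.Algebra.Algebra.Rat

/-!
# Counting homomorphisms to finite fields
-/

universe u v w

noncomputable section

namespace Groth.Agent.ZetaLib

open Polynomial

/-- Bound on homomorphisms into a finite field, from polynomial equations for generators. -/
theorem card_algHom_le {R : Type*} [CommRing R] {A : Type*} [CommRing A] [Algebra R A]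
    {F : Type*} [Field F] [Finite F] [Algebra R F] {s : ℕ} (y : Fin s → A) {ι : Type*} [Fintype ι]
    (a : ι → A) (hgen : Algebra.adjoin R (Set.range a) = ⊤) (d : ι → ℕ)
    (P : ι → Polynomial (MvPolynomial (Fin s) R))
    (hP : ∀ j, Polynomial.eval₂ (MvPolynomial.aeval y).toRingHom (a j) (P j) = 0)
    (hdeg : ∀ j, (P j).natDegree ≤ d j)
    (hne : ∀ j (z : Fin s → F), (P j).map (MvPolynomial.aeval z).toRingHom ≠ 0) :
    Finite (A →ₐ[R] F) ∧ Nat.card (A →ₐ[R] F) ≤ Nat.card F ^ s * ∏ j, d j := by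
  classical
  letI := Fintype.ofFinite F
  let T := Σ z : Fin s → F, ∀ j, ((P j).map (MvPolynomial.aeval z).toRingHom).roots.toFinset
  have hroot : ∀ (φ : A →ₐ[R] F) j, φ (a j) ∈
      ((P j).map (MvPolynomial.aeval fun i => φ (y i)).toRingHom).roots.toFinset := by
    intro φ j
    rw [Multiset.mem_toFinset, Polynomial.mem_roots (hne j _), Polynomial.IsRoot.def, Polynomial.eval_map]
    have h := congrArg φ.toRingHom (hP j)
    rw [Polynomial.hom_eval₂, map_zero] at h
    rw [show φ.toRingHom.comp (MvPolynomial.aeval y).toRingHom = (MvPolynomial.aeval fun i => φ (y i)).toRingHom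
      from congrArg AlgHom.toRingHom (MvPolynomial.comp_aeval (f := y) φ)] at h
    exact h
  let Φ : (A →ₐ[R] F) → T := fun φ => ⟨fun i => φ (y i), fun j => ⟨φ (a j), hroot φ j⟩⟩
  have hΦ : Function.Injective Φ := by
    intro φ ψ h
    refine AlgHom.ext_of_adjoin_eq_top hgen ?_
    rintro _ ⟨j, rfl⟩
    exact congrArg (fun t : T => (t.2 j : F)) h
  refine ⟨Finite.of_injective Φ hΦ, (Nat.card_le_card_of_injective Φ hΦ).trans ?_⟩
  rw [Nat.card_eq_fintype_card, Fintype.card_sigma]
  refine (Finset.sum_le_card_nsmul _ _ (∏ j, d j) fun z _ => ?_).trans ?_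
  · rw [Fintype.card_pi]
    refine Finset.prod_le_prod' fun j _ => ?_
    rw [Fintype.card_coe]
    exact (Multiset.toFinset_card_le _).trans ((Polynomial.card_roots' _).trans
      (Polynomial.natDegree_map_le.trans (hdeg j)))
  · simp [Nat.card_eq_fintype_card]

variable (k : Type u) [Field k]

theorem exists_noether_data (A : Type v) [CommRing A] [Algebra k A] [Algebra.FiniteType k A]
    [Nontrivial A] {r : ℕ} (hr : ringKrullDim A ≤ r) :
    ∃ (s : ℕ) (y : Fin s → A) (t : ℕ) (a : Fin t → A) (P : Fin t → Polynomial (MvPolynomial (Fin s) k)),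
      s ≤ r ∧ Algebra.adjoin k (Set.range a) = ⊤ ∧ (∀ j, (P j).Monic) ∧
      ∀ j, Polynomial.eval₂ (MvPolynomial.aeval y).toRingHom (a j) (P j) = 0 := by
  obtain ⟨s, g, hg, hfin⟩ := exists_finite_inj_algHom_of_fg k A
  obtain ⟨S, hS⟩ := ‹Algebra.FiniteType k A›.out
  have haeval : MvPolynomial.aeval (fun i => g (MvPolynomial.X i)) = g := by
    ext i; simp
  letI := g.toRingHom.toAlgebra
  haveI : Module.Finite (MvPolynomial (Fin s) k) A := hfin
  haveI : FaithfulSMul (MvPolynomial (Fin s) k) A := (faithfulSMul_iff_algebraMap_injective _ _).mpr hg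
  have hs : s ≤ r := by
    have h := hr
    rw [VarDim.ringKrullDim_eq_of_isIntegral (R := MvPolynomial (Fin s) k) (S := A),
      MvPolynomial.ringKrullDim_of_isNoetherianRing, ringKrullDim_eq_zero_of_field, zero_add,
      Nat.card_fin] at h
    exact_mod_cast h
  let e := S.equivFin.symm
  refine ⟨s, fun i => g (MvPolynomial.X i), S.card, fun j => (e j : A),
    fun j => minpoly (MvPolynomial (Fin s) k) (e j : A), hs, ?_, fun j => minpoly.monic (Algebra.IsIntegral.isIntegral _), fun j => ?_⟩
  · rw [← top_le_iff, ← hS]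
    refine Algebra.adjoin_mono fun x hx => ⟨e.symm ⟨x, hx⟩, by simp⟩
  · rw [haeval]
    exact minpoly.aeval (MvPolynomial (Fin s) k) (e j : A)

theorem exists_const_card_algHom_le (A : Type v) [CommRing A] [Algebra k A] [Algebra.FiniteType k A]
    {r : ℕ} (hr : ringKrullDim A ≤ r) :
    ∃ c : ℕ, ∀ (F : Type w) [Field F] [Finite F] [Algebra k F],
      Finite (A →ₐ[k] F) ∧ Nat.card (A →ₐ[k] F) ≤ c * Nat.card F ^ r := by
  rcases subsingleton_or_nontrivial A with hA | hA
  · refine ⟨0, fun F _ _ _ => ?_⟩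
    haveI : IsEmpty (A →ₐ[k] F) := ⟨fun φ => zero_ne_one' F (by rw [← map_zero φ, Subsingleton.elim (0 : A) 1, map_one])⟩
    exact ⟨inferInstance, by simp⟩
  obtain ⟨s, y, t, a, P, hs, hgen, hmonic, hP⟩ := exists_noether_data k A hr
  refine ⟨∏ j, (P j).natDegree, fun F _ _ _ => ?_⟩
  obtain ⟨h1, h2⟩ := card_algHom_le (F := F) y a hgen (fun j => (P j).natDegree) P hP (fun j => le_rfl)
    (fun j z => ((hmonic j).map _).ne_zero)
  refine ⟨h1, h2.trans ?_⟩
  rw [mul_comm]
  exact Nat.mul_le_mul_left _ (Nat.pow_le_pow_right Nat.card_pos hs)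

/-- Every polynomial over `ℚ` has an integral nonzero multiple. -/
theorem exists_int_multiple_mv {σ : Type*} (p : MvPolynomial σ ℚ) :
    ∃ (N : ℤ) (q : MvPolynomial σ ℤ), N ≠ 0 ∧ MvPolynomial.map (Int.castRingHom ℚ) q = (N : MvPolynomial σ ℚ) * p := by
  induction p using MvPolynomial.induction_on' with
  | monomial m c =>
    refine ⟨c.den, MvPolynomial.monomial m c.num, by exact_mod_cast c.den_nz, ?_⟩
    rw [MvPolynomial.map_monomial, ← map_intCast (MvPolynomial.C (σ := σ) (R := ℚ)), MvPolynomial.C_mul_monomial]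
    simp
  | add p q hp hq =>
    obtain ⟨N, p', hN, hp⟩ := hp; obtain ⟨M, q', hM, hq⟩ := hq
    refine ⟨N * M, MvPolynomial.C M * p' + MvPolynomial.C N * q', mul_ne_zero hN hM, ?_⟩
    simp only [map_add, map_mul, hp, hq, MvPolynomial.map_C, eq_intCast, Int.cast_mul, map_intCast]
    ring

theorem exists_int_multiple {σ : Type*} (g : Polynomial (MvPolynomial σ ℚ)) :
    ∃ (N : ℤ) (G : Polynomial (MvPolynomial σ ℤ)), N ≠ 0 ∧
      G.map (MvPolynomial.map (Int.castRingHom ℚ)) = (N : Polynomial (MvPolynomial σ ℚ)) * g := by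
  induction g using Polynomial.induction_on' with
  | monomial m c =>
    obtain ⟨N, q, hN, hq⟩ := exists_int_multiple_mv c
    refine ⟨N, Polynomial.monomial m q, hN, ?_⟩
    rw [Polynomial.map_monomial, hq, ← map_intCast (Polynomial.C (R := MvPolynomial σ ℚ)), Polynomial.C_mul_monomial]
  | add p q hp hq =>
    obtain ⟨N, p', hN, hp⟩ := hp; obtain ⟨M, q', hM, hq⟩ := hq
    refine ⟨N * M, (M : Polynomial (MvPolynomial σ ℤ)) * p' + (N : Polynomial (MvPolynomial σ ℤ)) * q', mul_ne_zero hN hM, ?_⟩
    rw [Polynomial.map_add, Polynomial.map_mul, Polynomial.map_mul, Polynomial.map_intCast, Polynomial.map_intCast, hp, hq]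
    push_cast
    ring

theorem isJacobsonRing_int : IsJacobsonRing ℤ := by
  rw [isJacobsonRing_iff_prime_eq]
  intro P hP
  by_cases h : P = ⊥
  · subst h
    refine le_antisymm (fun x hx => ?_) Ideal.le_jacobson
    rw [Ideal.mem_bot]
    by_contra hx0
    have := Ideal.mem_sInf.1 hx
    obtain ⟨q, hq, hqp⟩ := Nat.exists_infinite_primes (x.natAbs + 1)
    have hmax : (Ideal.span {(q:ℤ)}).IsMaximal :=
      PrincipalIdealRing.isMaximal_of_irreducible (Nat.prime_iff_prime_int.1 hqp).irreducible
    have := this ⟨bot_le, hmax⟩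
    rw [Ideal.mem_span_singleton, Int.natCast_dvd] at this
    have := Nat.le_of_dvd (by omega) this
    omega
  · exact Ideal.jacobson_eq_self_of_isMaximal (H := IsPrime.to_maximal_ideal h)

/-- A finitely generated field over `ℤ` is not of characteristic zero. -/
theorem not_charZero_of_finiteType_int (K : Type v) [Field K] (hft : (Int.castRingHom K).FiniteType) :
    ¬ CharZero K := by
  intro h
  haveI : Algebra.FiniteType ℤ K := by
    rw [← RingHom.finiteType_algebraMap, algebraMap_int_eq]; exact hft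
  haveI := isJacobsonRing_int
  haveI : Module.Finite ℤ K := finite_of_finite_type_of_isJacobsonRing ℤ K
  refine Int.not_isField ?_
  exact (Algebra.IsIntegral.isField_iff_isField (R := ℤ) (S := K) (RingHom.injective_int _)).mpr (Field.toIsField K)

variable {k}

theorem exists_data_charZero (A : Type v) [CommRing A] [IsDomain A] [Algebra.FiniteType ℤ A] [CharZero A]
    {r : ℕ} (hr : ringKrullDim A ≤ r) :
    ∃ (s : ℕ) (y : Fin s → A) (t : ℕ) (a : Fin t → A) (P : Fin t → Polynomial (MvPolynomial (Fin s) ℤ))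
      (N : ℤ), s + 1 ≤ r ∧ N ≠ 0 ∧ Algebra.adjoin ℤ (Set.range a) = ⊤ ∧
      (∀ j, ∃ d ≤ (P j).natDegree, ∃ M : ℤ, (P j).coeff d = MvPolynomial.C M ∧ M ∣ N) ∧
      ∀ j, Polynomial.eval₂ (MvPolynomial.aeval y).toRingHom (a j) (P j) = 0 := by
  classical
  set K := FractionRing A
  haveI : CharZero K := charZero_of_injective_algebraMap (IsFractionRing.injective A K)
  obtain ⟨S, hS⟩ := ‹Algebra.FiniteType ℤ A›.out
  let L : Subalgebra ℚ K := Algebra.adjoin ℚ (algebraMap A K '' (S : Set A))
  haveI : Algebra.FiniteType ℚ L :=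
    (Subalgebra.fg_iff_finiteType L).mp ⟨S.image (algebraMap A K), by simp [L]⟩
  have hmem : ∀ x : A, algebraMap A K x ∈ L := by
    intro x
    have hx : x ∈ Algebra.adjoin ℤ (S : Set A) := hS ▸ Algebra.mem_top
    induction hx using Algebra.adjoin_induction with
    | mem x hx => exact Algebra.subset_adjoin ⟨x, hx, rfl⟩
    | algebraMap m => simp
    | add x y _ _ hx hy => rw [map_add]; exact add_mem hx hy
    | mul x y _ _ hx hy => rw [map_mul]; exact mul_mem hx hy
  let φ : A →+* L := (algebraMap A K).codRestrict L hmem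
  have hφ : ∀ x : L, ∃ (M : ℤ) (b : A), M ≠ 0 ∧ φ b = (M : L) * x := by
    rintro ⟨x, hx⟩
    induction hx using Algebra.adjoin_induction with
    | mem x hx =>
      obtain ⟨b, -, rfl⟩ := hx
      exact ⟨1, b, one_ne_zero, by simp; rfl⟩
    | algebraMap q =>
      refine ⟨q.den, (q.num : A), by exact_mod_cast q.den_nz, Subtype.ext ?_⟩
      show algebraMap A K q.num = _
      simp only [map_intCast, MulMemClass.coe_mul, eq_ratCast]
      push_cast
      rw [mul_comm]
      exact_mod_cast (Rat.mul_den_eq_num q).symm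
    | add x y hx hy hx' hy' =>
      obtain ⟨M, b, hM, hb⟩ := hx'; obtain ⟨M', b', hM', hb'⟩ := hy'
      refine ⟨M * M', (M' : A) * b + (M : A) * b', mul_ne_zero hM hM', ?_⟩
      simp only [map_add, map_mul, map_intCast, hb, hb', Int.cast_mul]
      refine Subtype.ext ?_
      push_cast
      ring
    | mul x y hx hy hx' hy' =>
      obtain ⟨M, b, hM, hb⟩ := hx'; obtain ⟨M', b', hM', hb'⟩ := hy'
      refine ⟨M * M', b * b', mul_ne_zero hM hM', ?_⟩
      simp only [map_mul, hb, hb', Int.cast_mul]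
      refine Subtype.ext ?_
      push_cast
      ring
  have hinjφ : Function.Injective φ := fun x y h => IsFractionRing.injective A K (congrArg Subtype.val h)
  have hunit : ∀ M : ℤ, M ≠ 0 → IsUnit (M : L) := fun M hM => by
    have : (M : L) = algebraMap ℚ L (M : ℚ) := (map_intCast _ _).symm
    rw [this]
    exact (IsUnit.mk0 _ (Int.cast_ne_zero.mpr hM)).map _
  -- the dimension drops
  obtain ⟨s, g, hg, hfin⟩ := exists_finite_inj_algHom_of_fg ℚ L
  letI := g.toRingHom.toAlgebra
  haveI : Module.Finite (MvPolynomial (Fin s) ℚ) L := hfin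
  haveI : FaithfulSMul (MvPolynomial (Fin s) ℚ) L := (faithfulSMul_iff_algebraMap_injective _ _).mpr hg
  have hdimL : ringKrullDim L = s := by
    rw [VarDim.ringKrullDim_eq_of_isIntegral (R := MvPolynomial (Fin s) ℚ) (S := L),
      MvPolynomial.ringKrullDim_of_isNoetherianRing, ringKrullDim_eq_zero_of_field, zero_add, Nat.card_fin]
  have hs : s + 1 ≤ r := by
    have hmono : StrictMono (PrimeSpectrum.comap φ) := by
      refine Monotone.strictMono_of_injective (fun p q h => Ideal.comap_mono h) fun p q h => ?_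
      ext x
      obtain ⟨M, b, hM, hb⟩ := hφ x
      have := congrArg (fun t : PrimeSpectrum A => b ∈ t.asIdeal) h
      simp only [PrimeSpectrum.comap_asIdeal, Ideal.mem_comap, hb, eq_iff_iff] at this
      rw [(p.isPrime.mul_mem_iff_mem_or_mem), (q.isPrime.mul_mem_iff_mem_or_mem)] at this
      have hp : (M : L) ∉ p.asIdeal := fun h => p.isPrime.ne_top (Ideal.eq_top_of_isUnit_mem _ h (hunit M hM))
      have hq : (M : L) ∉ q.asIdeal := fun h => q.isPrime.ne_top (Ideal.eq_top_of_isUnit_mem _ h (hunit M hM))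
      simpa [hp, hq] using this
    obtain ⟨l, hl⟩ := Order.le_krullDim_iff.mp (hdimL.ge : (s : WithBot ℕ∞) ≤ ringKrullDim L)
    let l' : LTSeries (PrimeSpectrum A) := l.map _ hmono
    obtain ⟨Mx, hMx, hle⟩ := Ideal.exists_le_maximal l'.last.asIdeal l'.last.isPrime.ne_top
    have hlt : l'.last < ⟨Mx, hMx.isPrime⟩ := by
      refine lt_of_le_of_ne hle fun he => ?_
      have hmax : (l'.last.asIdeal).IsMaximal := by rw [he]; exact hMx
      letI := Ideal.Quotient.field l'.last.asIdeal
      have hftA : (Int.castRingHom A).FiniteType := by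
        rw [← algebraMap_int_eq]; exact RingHom.finiteType_algebraMap.mpr ‹_›
      have hftQ : (Int.castRingHom (A ⧸ l'.last.asIdeal)).FiniteType := by
        rw [Subsingleton.elim (Int.castRingHom (A ⧸ l'.last.asIdeal)) ((Ideal.Quotient.mk _).comp (Int.castRingHom A))]
        exact RingHom.FiniteType.comp (RingHom.FiniteType.of_surjective _ Ideal.Quotient.mk_surjective) hftA
      refine not_charZero_of_finiteType_int (A ⧸ l'.last.asIdeal) hftQ ?_
      refine charZero_of_inj_zero fun m hm => ?_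
      by_contra hm0
      rw [← map_natCast (Ideal.Quotient.mk l'.last.asIdeal), Ideal.Quotient.eq_zero_iff_mem] at hm
      rw [LTSeries.last_map, PrimeSpectrum.comap_asIdeal, Ideal.mem_comap, map_natCast] at hm
      exact l.last.isPrime.ne_top (Ideal.eq_top_of_isUnit_mem _ hm
        (by simpa using hunit m (by exact_mod_cast hm0)))
    have h := (Order.LTSeries.length_le_krullDim (l'.snoc _ hlt)).trans hr
    simp only [RelSeries.snoc_length, l', LTSeries.map_length, hl] at h
    exact_mod_cast h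
  -- rescale the transcendence generators into `A`
  choose M b hM hb using fun i => hφ (g (MvPolynomial.X i))
  let e := S.equivFin.symm
  let a : Fin S.card → A := fun j => (e j : A)
  let ψ : MvPolynomial (Fin s) ℚ →ₐ[ℚ] MvPolynomial (Fin s) ℚ :=
    MvPolynomial.aeval fun i => MvPolynomial.C ((M i : ℚ)⁻¹) * MvPolynomial.X i
  have hψ : (MvPolynomial.aeval fun i => φ (b i)).comp ψ = g := by
    ext i
    simp only [ψ, AlgHom.comp_apply, MvPolynomial.aeval_X, map_mul, MvPolynomial.aeval_C, hb]
    rw [← mul_assoc, ← map_intCast (algebraMap ℚ L), ← map_mul,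
      inv_mul_cancel₀ (Int.cast_ne_zero.mpr (hM i)), map_one, one_mul]
  have hrel : ∀ j, ∃ (N : ℤ) (G : Polynomial (MvPolynomial (Fin s) ℤ)) (d : ℕ), N ≠ 0 ∧
      d ≤ G.natDegree ∧ G.coeff d = MvPolynomial.C N ∧
      Polynomial.eval₂ (MvPolynomial.aeval b).toRingHom (a j) G = 0 := by
    intro j
    let g₀ := (minpoly (MvPolynomial (Fin s) ℚ) (φ (a j))).map ψ.toRingHom
    have hm : g₀.Monic := (minpoly.monic (Algebra.IsIntegral.isIntegral _)).map _
    have h0 : Polynomial.eval₂ (MvPolynomial.aeval fun i => φ (b i)).toRingHom (φ (a j)) g₀ = 0 := by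
      rw [Polynomial.eval₂_map, show ((MvPolynomial.aeval fun i => φ (b i)).toRingHom).comp ψ.toRingHom = g.toRingHom from
        congrArg AlgHom.toRingHom hψ]
      exact minpoly.aeval (MvPolynomial (Fin s) ℚ) (φ (a j))
    obtain ⟨N, G, hN, hG⟩ := exists_int_multiple g₀
    have hcoe : G.coeff g₀.natDegree = MvPolynomial.C N := by
      refine MvPolynomial.map_injective (Int.castRingHom ℚ) Int.cast_injective ?_
      rw [← Polynomial.coeff_map, hG, ← map_intCast (Polynomial.C (R := MvPolynomial (Fin s) ℚ)),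
        Polynomial.coeff_C_mul, hm.coeff_natDegree, mul_one, MvPolynomial.map_C]
      simp
    refine ⟨N, G, g₀.natDegree, hN, Polynomial.le_natDegree_of_ne_zero (by simp [hcoe, hN]), hcoe,
      hinjφ ?_⟩
    rw [map_zero, Polynomial.hom_eval₂]
    have hc : φ.comp (MvPolynomial.aeval b).toRingHom =
        ((MvPolynomial.aeval fun i => φ (b i)).toRingHom).comp (MvPolynomial.map (Int.castRingHom ℚ)) := by
      refine MvPolynomial.ringHom_ext (fun z => ?_) fun i => ?_
      · simp
      · simp
    rw [hc, ← Polynomial.eval₂_map, hG, Polynomial.eval₂_mul, h0, mul_zero]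
  choose N G d hN hd hcoe heval using hrel
  refine ⟨s, b, S.card, a, G, ∏ j, N j, hs, Finset.prod_ne_zero_iff.mpr fun j _ => hN j, ?_,
    fun j => ⟨d j, hd j, N j, hcoe j, Finset.dvd_prod_of_mem _ (Finset.mem_univ j)⟩, heval⟩
  rw [← top_le_iff, ← hS]
  exact Algebra.adjoin_mono fun x hx => ⟨e.symm ⟨x, hx⟩, by simp [a]⟩

/-- Counting for a domain finitely generated over `ℤ` of characteristic zero. -/
theorem exists_const_card_ringHom_le_charZero (A : Type v) [CommRing A] [IsDomain A]
    [Algebra.FiniteType ℤ A] [CharZero A] {r : ℕ} (hr : ringKrullDim A ≤ r) :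
    ∃ (c : ℕ) (N : ℤ), N ≠ 0 ∧ ∀ (F : Type w) [Field F] [Finite F], (N : F) ≠ 0 →
      Finite (A →+* F) ∧ Nat.card (A →+* F) * Nat.card F ≤ c * Nat.card F ^ r := by
  obtain ⟨s, y, t, a, P, N, hs, hN, hgen, hco, hP⟩ := exists_data_charZero A hr
  refine ⟨∏ j, (P j).natDegree, N, hN, fun F _ _ hNF => ?_⟩
  obtain ⟨h1, h2⟩ := card_algHom_le (F := F) y a hgen (fun j => (P j).natDegree) P hP (fun j => le_rfl)
    (fun j z h0 => by
      obtain ⟨d, -, M, hM, hMN⟩ := hco j
      have := congrArg (fun q => Polynomial.coeff q d) h0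
      simp only [Polynomial.coeff_map, hM, Polynomial.coeff_zero] at this
      obtain ⟨K, rfl⟩ := hMN
      refine hNF ?_
      have hMF : (M : F) = 0 := by simpa using this
      rw [Int.cast_mul, hMF, zero_mul])
  let e : (A →+* F) ≃ (A →ₐ[ℤ] F) :=
    { toFun := fun φ => φ.toIntAlgHom
      invFun := fun φ => φ.toRingHom
      left_inv := fun φ => rfl
      right_inv := fun φ => AlgHom.ext fun x => rfl }
  haveI := h1
  refine ⟨Finite.of_equiv _ e.symm, ?_⟩
  rw [Nat.card_congr e]
  calc Nat.card (A →ₐ[ℤ] F) * Nat.card F ≤ Nat.card F ^ s * (∏ j, (P j).natDegree) * Nat.card F :=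
        Nat.mul_le_mul_right _ h2
    _ = (∏ j, (P j).natDegree) * Nat.card F ^ (s + 1) := by ring
    _ ≤ _ := Nat.mul_le_mul_left _ (Nat.pow_le_pow_right Nat.card_pos hs)

end Groth.Agent.ZetaLib
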